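import Groth.Agent.BlowUpLib.Exists
import Mathlib.AlgebraicGeometry.ValuativeCriterion
import Mathlib.RingTheory.Valuation.ValuationRing

/-!
# Blow-ups in finite type centres are proper
-/

set_option autoImplicit false
set_option backward.isDefEq.respectTransparency.types false

universe u

open CategoryTheory Limits AlgebraicGeometry TopologicalSpace
open Groth.Agent.ModPairLib (res res_res ideal_restrict)

noncomputable section

namespace Groth.Agent.BlowUpLib

variable {X : Scheme.{u}} {I : X.IdealSheafData}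

theorem chartι_cm (i : Idx I) : chartι i ≫ blowUpMap I = cm I i := ι_blowUpMap i

theorem chartι_preimage_opensRange (i j : Idx I) :
    chartι i ⁻¹ᵁ (chartι j).opensRange = W I i j := by
  refine le_antisymm (fun z hz => ?_) ?_
  · let V := chartι i ⁻¹ᵁ (chartι j).opensRange
    let q := IsOpenImmersion.lift (chartι j) (V.ι ≫ chartι i) (by
      rintro _ ⟨w, rfl⟩
      exact w.2)
    have hq : q ≫ chartι j = V.ι ≫ chartι i := IsOpenImmersion.lift_fac _ _ _
    have e : q ≫ cm I j = V.ι ≫ cm I i := by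
      rw [← chartι_cm, ← chartι_cm, reassoc_of% hq]
    have h1 := locus_self_eq_top j q (e ▸ good_comp (good_cm i) V.ι)
    rw [e, ← preimage_locus j.2.2 (cm I i) (good_cm i) _ (good_comp (good_cm i) _)] at h1
    have := h1.ge (show (⟨z, hz⟩ : V.toScheme) ∈ (⊤ : V.toScheme.Opens) from trivial)
    exact this
  · have h := preimage_opensRange_ι (chartι i) j (by rw [chartι_cm]; exact good_cm i)
    rwa [chartι_cm] at h

theorem eq_frac_of_mul_eq {U : X.affineOpens} {a : Γ(X, U.1)} (x : Γ(X, U.1)) (hx : x ∈ I.ideal U)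
    (y : ChartRing I U a)
    (h : y * algebraMap Γ(X, U.1) (ChartRing I U a) a = algebraMap Γ(X, U.1) (ChartRing I U a) x) :
    y = frac x hx :=
  (mul_cancel_right_mem_nonZeroDivisors (algebraMap_self_mem_nonZeroDivisors (I := I) (a := a))).1
    (h.trans (frac_mul (a := a) x hx).symm)

section Affine

variable {U : X.affineOpens} {a b : Γ(X, U.1)}

theorem chartMap_appLE (e : (⊤ : (chart I U a).Opens) ≤ chartMap I U a ⁻¹ᵁ U.1) :
    (chartMap I U a).appLE U.1 ⊤ e =
      CommRingCat.ofHom (algebraMap Γ(X, U.1) (ChartRing I U a)) ≫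
        (Scheme.ΓSpecIso (CommRingCat.of (ChartRing I U a))).inv :=
  (fromSpec_comp_appLE _ e).trans (Scheme.ΓSpecIso_inv_naturality _).symm

variable (ha : a ∈ I.ideal U) (hb : b ∈ I.ideal U)

include ha in
theorem frac_self : (frac a ha : ChartRing I U a) = 1 := by
  refine eq_frac_of_mul_eq a ha 1 ?_ |>.symm
  exact one_mul _

theorem W_eq_basicOpen :
    W I ⟨U, a, ha⟩ ⟨U, b, hb⟩ = PrimeSpectrum.basicOpen (frac b hb : ChartRing I U a) := by
  set S := CommRingCat.of (ChartRing I U a)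
  let T : (Spec S).affineOpens := ⟨⊤, isAffineOpen_top _⟩
  obtain ⟨⟨e, he⟩, hgood⟩ := generates_chartMap ha
  let c : Γ(Spec S, ⊤) := (Scheme.ΓSpecIso S).inv.hom (frac b hb)
  have hc : c * ((chartMap I U a).appLE U.1 ⊤ e).hom a = ((chartMap I U a).appLE U.1 ⊤ e).hom b := by
    rw [chartMap_appLE]
    exact (map_mul _ _ _).symm.trans (congrArg _ (frac_mul b hb))
  rw [← basicOpen_eq_of_affine (R := S)]
  refine le_antisymm (fun z hz => ?_) (fun z hz => ?_)
  · obtain ⟨V, hzV, eV, hV⟩ := mem_locus.1 hz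
    have hV' := hV
    rw [ideal_restrict _ (U := T) (V := V) le_top he] at hV'
    obtain ⟨d, hd⟩ := Ideal.mem_span_singleton'.1 (hV'.le (Ideal.mem_span_singleton_self _))
    refine le_basicOpen_of_isUnit (le_top : V.1 ≤ ⊤) c ?_ hzV
    refine IsUnit.of_mul_eq_one d ?_
    refine (mul_cancel_right_mem_nonZeroDivisors (mem_nonZeroDivisors_of_eff hgood hV)).1 ?_
    rw [one_mul, mul_assoc, hd, ← map_mul, hc]
    exact ConcreteCategory.congr_hom ((chartMap I U a).appLE_map e (homOfLE le_top).op) b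
  · refine mem_locus.2 ⟨(Spec S).affineBasicOpen (U := T) c, hz, ?_⟩
    exact generates_of_isUnit (V := T) (V' := (Spec S).affineBasicOpen (U := T) c) ((Spec S).basicOpen_le c)
      e he hc (RingedSpace.isUnit_res_basicOpen (Spec S).toRingedSpace c)

theorem exists_transition : ∃ μ : ChartRing I U b →+* Localization.Away (frac b hb : ChartRing I U a),
    μ.comp (algebraMap Γ(X, U.1) (ChartRing I U b)) =
        (algebraMap (ChartRing I U a) (Localization.Away (frac b hb : ChartRing I U a))).comp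
          (algebraMap Γ(X, U.1) (ChartRing I U a)) ∧
      Spec.map (CommRingCat.ofHom μ) ≫ chartι (I := I) ⟨U, b, hb⟩ =
        Spec.map (CommRingCat.ofHom (algebraMap (ChartRing I U a)
          (Localization.Away (frac b hb : ChartRing I U a)))) ≫ chartι (I := I) ⟨U, a, ha⟩ := by
  set c : ChartRing I U a := frac b hb
  set L := Localization.Away c
  let d : Spec (CommRingCat.of L) ⟶ chart I U a :=
    Spec.map (CommRingCat.ofHom (algebraMap (ChartRing I U a) L))
  have : IsOpenImmersion d := IsOpenImmersion.of_isLocalization c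
  have hg : BlowUp.IsEffCartierIdeal (I.comap (d ≫ chartMap I U a)) :=
    good_comp (generates_chartMap ha).2 d
  have hloc : locus I (d ≫ chartMap I U a) U b = ⊤ := by
    rw [← preimage_locus hb _ (generates_chartMap ha).2 d hg]
    refine top_le_iff.1 fun z _ => ?_
    show d z ∈ W I ⟨U, a, ha⟩ ⟨U, b, hb⟩
    rw [W_eq_basicOpen ha hb]
    have : d z ∈ Set.range (PrimeSpectrum.comap (algebraMap (ChartRing I U a) L)) := ⟨z, rfl⟩
    rwa [PrimeSpectrum.localization_away_comap_range L c] at this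
  obtain ⟨h, hh, -⟩ := existsUnique_lift hb _ hg hloc
  have hh' : Spec.map (Spec.preimage h) = h := Spec.map_preimage h
  refine ⟨(Spec.preimage h).hom, ?_, ?_⟩
  · have : Spec.map (CommRingCat.ofHom (algebraMap Γ(X, U.1) (ChartRing I U b)) ≫ Spec.preimage h) =
        Spec.map (CommRingCat.ofHom (algebraMap Γ(X, U.1) (ChartRing I U a)) ≫
          CommRingCat.ofHom (algebraMap (ChartRing I U a) L)) := by
      rw [← cancel_mono U.2.fromSpec, Spec.map_comp, Spec.map_comp, hh', Category.assoc,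
        Category.assoc]
      exact hh
    exact congrArg CommRingCat.Hom.hom (Spec.map_injective this)
  · rw [CommRingCat.ofHom_hom, hh']
    exact ι_eq_of_eq (I := I) ⟨U, b, hb⟩ ⟨U, a, ha⟩ h d (hh.symm ▸ hg) hh

theorem transition_frac (μ : ChartRing I U b →+* Localization.Away (frac b hb : ChartRing I U a))
    (hμ : μ.comp (algebraMap Γ(X, U.1) (ChartRing I U b)) =
        (algebraMap (ChartRing I U a) (Localization.Away (frac b hb : ChartRing I U a))).comp
          (algebraMap Γ(X, U.1) (ChartRing I U a))) (x : Γ(X, U.1)) (hx : x ∈ I.ideal U) :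
    μ (frac x hx) * algebraMap _ _ (frac b hb : ChartRing I U a) =
      algebraMap _ _ (frac x hx : ChartRing I U a) := by
  have hn := Groth.Agent.FlatMor12.BlowUpDisjoint.comap_nonzero_divisor
    (Submonoid.powers (frac b hb : ChartRing I U a))
    (S := Localization.Away (frac b hb : ChartRing I U a))
    (algebraMap_self_mem_nonZeroDivisors (I := I) (a := a))
  refine (mul_cancel_right_mem_nonZeroDivisors hn).1 ?_
  rw [mul_assoc, ← map_mul, frac_mul, ← map_mul, frac_mul]
  have h1 := RingHom.congr_fun hμ b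
  have h2 := RingHom.congr_fun hμ x
  simp only [RingHom.comp_apply] at h1 h2
  rw [← h1, ← h2, ← map_mul, frac_mul]

end Affine

section gens

variable {U : X.affineOpens} {a : Γ(X, U.1)} {s : Set Γ(X, U.1)} (hs : Ideal.span s = I.ideal U)

include hs in
theorem adjoin_frac_eq_top :
    Algebra.adjoin Γ(X, U.1)
      (Set.range fun x : s => (frac x.1 (hs ▸ Ideal.subset_span x.2) : ChartRing I U a)) = ⊤ := by
  refine top_le_iff.1 fun z _ => ?_
  set A := Algebra.adjoin Γ(X, U.1)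
    (Set.range fun x : s => (frac x.1 (hs ▸ Ideal.subset_span x.2) : ChartRing I U a))
  have hfrac : ∀ x (hx : x ∈ I.ideal U), frac x hx ∈ A := by
    intro x hx
    have hx' := hs.ge hx
    induction hx' using Submodule.span_induction with
    | mem y hy => exact Algebra.subset_adjoin ⟨⟨y, hy⟩, rfl⟩
    | zero =>
      rw [← eq_frac_of_mul_eq 0 hx 0 (by rw [map_zero, zero_mul])]
      exact zero_mem A
    | add y y' hy hy' h h' =>
      rw [← eq_frac_of_mul_eq (y + y') hx (frac y (hs ▸ hy) + frac y' (hs ▸ hy'))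
        (by rw [add_mul, frac_mul, frac_mul, map_add])]
      exact add_mem (h (hs ▸ hy)) (h' (hs ▸ hy'))
    | smul r y hy h =>
      rw [← eq_frac_of_mul_eq (r • y) hx (algebraMap _ _ r * frac y (hs ▸ hy))
        (by rw [mul_assoc, frac_mul, smul_eq_mul, map_mul])]
      exact mul_mem (A.algebraMap_mem r) (h (hs ▸ hy))
  obtain ⟨z, hz⟩ := z
  induction hz using Algebra.adjoin_induction with
  | mem q hq =>
    obtain ⟨x, hx, rfl⟩ := hq
    exact hfrac x hx
  | algebraMap r => exact A.algebraMap_mem r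
  | add y y' hy hy' h h' => exact add_mem (h trivial) (h' trivial)
  | mul y y' hy hy' h h' => exact mul_mem (h trivial) (h' trivial)

end gens

theorem locallyOfFiniteType_blowUpMap (hI : BlowUp.IsFiniteTypeIdeal I) :
    LocallyOfFiniteType (blowUpMap I) := by
  let 𝒰 : (B I).OpenCover := (glueData I).openCover
  rw [IsZariskiLocalAtSource.iff_of_openCover (P := @LocallyOfFiniteType) 𝒰]
  intro i
  have h : LocallyOfFiniteType (cm I i) := by
    obtain ⟨s, hs⟩ := hI i.1
    have : Algebra.FiniteType Γ(X, i.1.1) (ChartRing I i.1 i.2.1) := by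
      have h := adjoin_frac_eq_top (a := i.2.1) (s := (s : Set Γ(X, i.1.1))) hs
      exact ⟨h ▸ Subalgebra.fg_def.2 ⟨_, Set.finite_range _, rfl⟩⟩
    have : LocallyOfFiniteType
        (Spec.map (CommRingCat.ofHom (algebraMap Γ(X, i.1.1) (ChartRing I i.1 i.2.1)))) :=
      HasRingHomProperty.Spec_iff.2 (RingHom.finiteType_algebraMap.2 this)
    show LocallyOfFiniteType (_ ≫ _)
    infer_instance
  show LocallyOfFiniteType (chartι (I := I) i ≫ blowUpMap I)
  exact ι_blowUpMap i ▸ h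

theorem preimage_eq_iSup (U : X.affineOpens) (s : Finset Γ(X, U.1))
    (hs : Ideal.span (s : Set Γ(X, U.1)) = I.ideal U) :
    blowUpMap I ⁻¹ᵁ U.1 =
      ⨆ a : s, (chartι (I := I) ⟨U, a.1, hs ▸ Ideal.subset_span a.2⟩).opensRange := by
  refine le_antisymm (fun x hx => ?_) (iSup_le fun a => ?_)
  · obtain ⟨a, ha, hxa⟩ := exists_mem_locus (blowUpMap I) good_blowUpMap U hx _ hs
    refine Opens.mem_iSup.2 ⟨⟨a, ha⟩, ?_⟩
    have := preimage_opensRange_ι (𝟙 (B I)) ⟨U, a, hs ▸ Ideal.subset_span ha⟩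
      (by rw [Category.id_comp]; exact good_blowUpMap)
    rw [Category.id_comp] at this
    exact this hxa
  · rintro _ ⟨z, rfl⟩
    show blowUpMap I (chartι _ z) ∈ U.1
    rw [← Scheme.Hom.comp_apply, chartι_cm]
    show U.2.fromSpec _ ∈ U.1
    rw [← SetLike.mem_coe, ← U.2.range_fromSpec]
    exact ⟨_, rfl⟩

theorem quasiCompact_blowUpMap (hI : BlowUp.IsFiniteTypeIdeal I) : QuasiCompact (blowUpMap I) := by
  rw [quasiCompact_iff_forall_isAffineOpen]
  intro U hU
  obtain ⟨s, hs⟩ := hI ⟨U, hU⟩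
  rw [preimage_eq_iSup ⟨U, hU⟩ s hs, Opens.coe_iSup]
  exact isCompact_iUnion fun a => isCompact_range (Scheme.Hom.continuous _)

theorem quasiSeparated_blowUpMap (hI : BlowUp.IsFiniteTypeIdeal I) :
    QuasiSeparated (blowUpMap I) := by
  rw [HasAffineProperty.iff_of_iSup_eq_top (P := @QuasiSeparated) (fun U : X.affineOpens => U)
    (iSup_affineOpens_eq_top X)]
  intro U
  obtain ⟨s, hs⟩ := hI U
  show QuasiSeparatedSpace (blowUpMap I ⁻¹ᵁ U.1).toScheme
  set P := blowUpMap I ⁻¹ᵁ U.1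
  let O : s → (B I).Opens := fun a =>
    (chartι (I := I) ⟨U, a.1, hs ▸ Ideal.subset_span a.2⟩).opensRange
  have hP : P = ⨆ a, O a := preimage_eq_iSup U s hs
  refine Scheme.quasiSeparatedSpace_of_isOpenCover (fun a : s => P.ι ⁻¹ᵁ O a) ?_ (fun a => ?_)
    fun a b => ?_
  · refine top_le_iff.1 fun x _ => ?_
    obtain ⟨a, ha⟩ := Opens.mem_iSup.1 (hP.le x.2)
    exact Opens.mem_iSup.2 ⟨a, ha⟩
  · refine (isAffineOpen_opensRange _).preimage_of_isOpenImmersion _ ?_
    rw [Scheme.Opens.opensRange_ι, hP]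
    exact le_iSup O a
  · rw [← Opens.coe_inf, ← Scheme.Hom.preimage_inf]
    show IsCompact (P.ι ⁻¹' ((O a ⊓ O b : (B I).Opens) : Set (B I)))
    refine P.ι.isOpenEmbedding.isInducing.isCompact_preimage' ?_ ?_
    · have : O a ⊓ O b = chartι (I := I) ⟨U, a.1, hs ▸ Ideal.subset_span a.2⟩ ''ᵁ
          (W I ⟨U, a.1, hs ▸ Ideal.subset_span a.2⟩ ⟨U, b.1, hs ▸ Ideal.subset_span b.2⟩) := by
        rw [← chartι_preimage_opensRange, Scheme.Hom.image_preimage_eq_opensRange_inf]
      rw [this]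
      refine IsCompact.image ?_ (Scheme.Hom.continuous _)
      rw [W_eq_basicOpen (hs ▸ Ideal.subset_span a.2) (hs ▸ Ideal.subset_span b.2)]
      exact PrimeSpectrum.isCompact_basicOpen _
    · rw [Scheme.Opens.range_ι, hP]
      exact fun x hx => le_iSup O a hx.1

theorem mem_of_mem_closedPoint {R : Type u} [CommRing R] [IsLocalRing R] {Y : Scheme.{u}}
    (l : Spec (CommRingCat.of R) ⟶ Y) {O : Y.Opens} (h : l (IsLocalRing.closedPoint R) ∈ O)
    (z : Spec (CommRingCat.of R)) : l z ∈ O :=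
  ((IsLocalRing.specializes_closedPoint z).map l.continuous).mem_open O.2 h

set_option maxHeartbeats 1000000 in
theorem valuativeCriterion_existence (hI : BlowUp.IsFiniteTypeIdeal I) :
    ValuativeCriterion.Existence (blowUpMap I) := by
  rintro ⟨R, K, i₁, i₂, ⟨w⟩⟩
  obtain ⟨_, ⟨U₀, hU₀, rfl⟩, hcl, -⟩ := X.isBasis_affineOpens.exists_subset_of_mem_open
    (Set.mem_univ (i₂ (IsLocalRing.closedPoint R))) isOpen_univ
  let U : X.affineOpens := ⟨U₀, hU₀⟩
  obtain ⟨s, hs⟩ := hI U
  obtain ⟨ψ, hψ⟩ : ∃ ψ, Spec.map ψ ≫ U.2.fromSpec = i₂ := by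
    refine ⟨Spec.preimage (IsOpenImmersion.lift U.2.fromSpec i₂ ?_), by
      rw [Spec.map_preimage, IsOpenImmersion.lift_fac]⟩
    rw [U.2.range_fromSpec]
    rintro _ ⟨z, rfl⟩
    exact mem_of_mem_closedPoint i₂ hcl z
  let o : Spec (CommRingCat.of K) := IsLocalRing.closedPoint K
  have ho : i₁ o ∈ blowUpMap I ⁻¹ᵁ U.1 := by
    show (i₁ ≫ blowUpMap I) o ∈ U.1
    rw [w]
    exact mem_of_mem_closedPoint i₂ hcl _
  rw [preimage_eq_iSup U s hs, Opens.mem_iSup] at ho
  obtain ⟨⟨a, has⟩, hoa⟩ := ho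
  have hmemI : ∀ x ∈ s, x ∈ I.ideal U := fun x hx => hs ▸ Ideal.subset_span hx
  have ha := hmemI a has
  obtain ⟨θ, hθ⟩ : ∃ θ, Spec.map θ ≫ chartι (I := I) ⟨U, a, ha⟩ = i₁ := by
    refine ⟨Spec.preimage (IsOpenImmersion.lift (chartι (I := I) ⟨U, a, ha⟩) i₁ ?_), by
      rw [Spec.map_preimage, IsOpenImmersion.lift_fac]⟩
    rintro _ ⟨z, rfl⟩
    rw [Subsingleton.elim z o]
    exact hoa
  have hθα : ∀ r, θ.hom (algebraMap Γ(X, U.1) (ChartRing I U a) r) = algebraMap R K (ψ.hom r) := by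
    have h1 : CommRingCat.ofHom (algebraMap Γ(X, U.1) (ChartRing I U a)) ≫ θ =
        ψ ≫ CommRingCat.ofHom (algebraMap R K) := by
      apply Spec.map_injective
      rw [← cancel_mono U.2.fromSpec, Spec.map_comp, Spec.map_comp, Category.assoc, Category.assoc,
        hψ, ← w, ← hθ, Category.assoc, chartι_cm]
      rfl
    exact fun r => congrArg (fun φ => φ.hom r) h1
  let v := ValuationRing.valuation R K
  let f : s → K := fun x => θ.hom (frac x.1 (hmemI x.1 x.2))
  obtain ⟨⟨a₁, ha₁s⟩, -, hmax⟩ := s.attach.exists_max_image (fun x => v (f x)) ⟨⟨a, has⟩, by simp⟩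
  have ha₁ := hmemI a₁ ha₁s
  set f₁ : K := θ.hom (frac a₁ ha₁) with hf₁def
  have hf₁ : f₁ ≠ 0 := by
    intro h0
    have := hmax ⟨a, has⟩ (by simp)
    simp only [f, frac_self ha, map_one] at this
    rw [← hf₁def, h0, map_zero] at this
    exact one_ne_zero (le_zero_iff.1 this)
  obtain ⟨μ, hμ, hμι⟩ := exists_transition ha ha₁
  let θ' : Localization.Away (frac a₁ ha₁ : ChartRing I U a) →+* K :=
    IsLocalization.Away.lift (S := Localization.Away (frac a₁ ha₁ : ChartRing I U a))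
      (frac a₁ ha₁ : ChartRing I U a) (g := θ.hom) (isUnit_iff_ne_zero.2 hf₁)
  have hθ' : θ'.comp (algebraMap _ _) = θ.hom := IsLocalization.Away.lift_comp _ _
  let θ₁ := θ'.comp μ
  have hμα : ∀ r, θ₁ (algebraMap Γ(X, U.1) (ChartRing I U a₁) r) = algebraMap R K (ψ.hom r) := by
    intro r
    rw [← hθα, ← hθ']
    exact congrArg θ' (RingHom.congr_fun hμ r)
  have hrange : ∀ z : ChartRing I U a₁, θ₁ z ∈ (algebraMap R K).range := by
    intro z
    have hz : z ∈ Algebra.adjoin Γ(X, U.1) _ :=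
      (adjoin_frac_eq_top (a := a₁) (s := (s : Set Γ(X, U.1))) hs).ge (trivial : z ∈ ⊤)
    induction hz using Algebra.adjoin_induction with
    | algebraMap r => exact ⟨ψ.hom r, (hμα r).symm⟩
    | add x y _ _ hx hy => rw [map_add]; exact add_mem hx hy
    | mul x y _ _ hx hy => rw [map_mul]; exact mul_mem hx hy
    | mem q hq =>
      obtain ⟨⟨x, hx⟩, rfl⟩ := hq
      have h1 : θ₁ (frac x (hmemI x hx)) * f₁ = f ⟨x, hx⟩ := by
        have := congrArg θ' (transition_frac ha₁ μ hμ x (hmemI x hx))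
        rw [map_mul] at this
        simpa only [f, hf₁def, ← hθ', RingHom.comp_apply, θ₁] using this
      have hle : v (θ₁ (frac x (hmemI x hx))) ≤ 1 := by
        have h2 := hmax ⟨x, hx⟩ (by simp)
        rw [← h1, map_mul] at h2
        have h3 : (0 : ValuationRing.ValueGroup R K) < v f₁ :=
          zero_lt_iff.2 ((Valuation.ne_zero_iff _).2 hf₁)
        by_contra hcon
        exact absurd h2 (not_le.2 (lt_of_eq_of_lt (one_mul _).symm
          (mul_lt_mul_of_pos_right (not_le.1 hcon) h3)))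
      obtain ⟨r, hr⟩ := (ValuationRing.mem_integer_iff R K _).1 hle
      exact ⟨r, hr⟩
  let eR := RingEquiv.ofBijective (algebraMap R K).rangeRestrict
    ⟨fun x y h => IsFractionRing.injective R K (congrArg Subtype.val h),
      RingHom.rangeRestrict_surjective _⟩
  let ρ : ChartRing I U a₁ →+* R := eR.symm.toRingHom.comp (θ₁.codRestrict _ hrange)
  have hρ : (algebraMap R K).comp ρ = θ₁ :=
    RingHom.ext fun z => congrArg Subtype.val (eR.apply_symm_apply (θ₁.codRestrict _ hrange z))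
  refine ⟨⟨⟨Spec.map (CommRingCat.ofHom ρ) ≫ chartι (I := I) ⟨U, a₁, ha₁⟩, ?_, ?_⟩⟩⟩
  · dsimp only
    rw [← Spec.map_comp_assoc, ← CommRingCat.ofHom_comp, hρ, CommRingCat.ofHom_comp,
      Spec.map_comp_assoc, hμι, ← Spec.map_comp_assoc, ← CommRingCat.ofHom_comp, hθ',
      CommRingCat.ofHom_hom, hθ]
  · dsimp only
    rw [Category.assoc, chartι_cm]
    show Spec.map _ ≫ Spec.map _ ≫ U.2.fromSpec = i₂
    refine Eq.trans ?_ hψ
    rw [← Spec.map_comp_assoc]
    congr 2
    ext r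
    apply IsFractionRing.injective R K
    exact (RingHom.congr_fun hρ _).trans (hμα r)

theorem valuativeCriterion_uniqueness (hI : BlowUp.IsFiniteTypeIdeal I) :
    ValuativeCriterion.Uniqueness (blowUpMap I) := by
  rintro ⟨R, K, i₁, i₂, ⟨w⟩⟩
  constructor
  rintro ⟨l, hl₁, hl₂⟩ ⟨l', hl₁', hl₂'⟩
  dsimp only at l hl₁ hl₂ l' hl₁' hl₂' ⊢
  suffices l = l' by subst this; rfl
  obtain ⟨_, ⟨U₀, hU₀, rfl⟩, hcl, -⟩ := X.isBasis_affineOpens.exists_subset_of_mem_open
    (Set.mem_univ (i₂ (IsLocalRing.closedPoint R))) isOpen_univ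
  let U : X.affineOpens := ⟨U₀, hU₀⟩
  obtain ⟨s, hs⟩ := hI U
  have hchart : ∀ m : Spec (CommRingCat.of R) ⟶ B I, m ≫ blowUpMap I = i₂ → ∃ (a : Γ(X, U.1))
      (ha : a ∈ I.ideal U) (ρ : ChartRing I U a →+* R),
        Spec.map (CommRingCat.ofHom ρ) ≫ chartι (I := I) ⟨U, a, ha⟩ = m := by
    intro m hm
    have hmU : m (IsLocalRing.closedPoint R) ∈ blowUpMap I ⁻¹ᵁ U.1 := by
      show (m ≫ blowUpMap I) (IsLocalRing.closedPoint R) ∈ U.1
      rw [hm]
      exact hcl
    rw [preimage_eq_iSup U s hs, Opens.mem_iSup] at hmU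
    obtain ⟨⟨a, has⟩, hoa⟩ := hmU
    refine ⟨a, hs ▸ Ideal.subset_span has,
      (Spec.preimage (IsOpenImmersion.lift (chartι (I := I) ⟨U, a, hs ▸ Ideal.subset_span has⟩) m ?_)).hom,
      by rw [CommRingCat.ofHom_hom, Spec.map_preimage, IsOpenImmersion.lift_fac]⟩
    rintro _ ⟨z, rfl⟩
    exact mem_of_mem_closedPoint m hoa z
  obtain ⟨a, ha, ρ, rfl⟩ := hchart l hl₂
  obtain ⟨b, hb, ρ', rfl⟩ := hchart l' hl₂'
  let θ := (algebraMap R K).comp ρ
  let θ₂ := (algebraMap R K).comp ρ'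
  have hK : Spec.map (CommRingCat.ofHom θ) ≫ chartι (I := I) ⟨U, a, ha⟩ =
      Spec.map (CommRingCat.ofHom θ₂) ≫ chartι (I := I) ⟨U, b, hb⟩ := by
    simp only [θ, θ₂, CommRingCat.ofHom_comp, Spec.map_comp, Category.assoc, hl₁, hl₁']
  set c : ChartRing I U a := frac b hb
  have hθc : θ c ≠ 0 := by
    let o : Spec (CommRingCat.of K) := IsLocalRing.closedPoint K
    have : Spec.map (CommRingCat.ofHom θ) o ∈
        chartι (I := I) ⟨U, a, ha⟩ ⁻¹ᵁ (chartι (I := I) ⟨U, b, hb⟩).opensRange := by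
      show (Spec.map (CommRingCat.ofHom θ) ≫ chartι (I := I) ⟨U, a, ha⟩) o ∈
        (chartι (I := I) ⟨U, b, hb⟩).opensRange
      rw [hK]
      exact ⟨_, rfl⟩
    rw [chartι_preimage_opensRange, W_eq_basicOpen ha hb] at this
    intro h0
    apply this
    show θ c ∈ (IsLocalRing.closedPoint K).asIdeal
    rw [h0]
    exact zero_mem _
  obtain ⟨μ, hμ, hμι⟩ := exists_transition ha hb
  let θ' : Localization.Away c →+* K :=
    IsLocalization.Away.lift (S := Localization.Away c) c (g := θ) (isUnit_iff_ne_zero.2 hθc)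
  have hθ' : θ'.comp (algebraMap _ _) = θ := IsLocalization.Away.lift_comp _ _
  have hθμ : θ'.comp μ = θ₂ := by
    have h : Spec.map (CommRingCat.ofHom (θ'.comp μ)) = Spec.map (CommRingCat.ofHom θ₂) := by
      rw [← cancel_mono (chartι (I := I) ⟨U, b, hb⟩), CommRingCat.ofHom_comp, Spec.map_comp,
        Category.assoc, hμι, ← Spec.map_comp_assoc, ← CommRingCat.ofHom_comp, hθ', hK]
    exact congrArg CommRingCat.Hom.hom (Spec.map_injective h)
  have hunit : IsUnit (ρ c) := by
    refine IsUnit.of_mul_eq_one (ρ' (frac a ha)) (IsFractionRing.injective R K ?_)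
    rw [map_mul, map_one, mul_comm]
    show θ₂ (frac a ha) * θ c = 1
    rw [← hθμ, ← hθ', RingHom.comp_apply, RingHom.comp_apply, ← map_mul,
      transition_frac hb μ hμ a ha, frac_self ha, map_one, map_one]
  have hcl' : (Spec.map (CommRingCat.ofHom ρ) ≫ chartι (I := I) ⟨U, a, ha⟩)
      (IsLocalRing.closedPoint R) ∈ (chartι (I := I) ⟨U, b, hb⟩).opensRange := by
    show Spec.map (CommRingCat.ofHom ρ) (IsLocalRing.closedPoint R) ∈
      chartι (I := I) ⟨U, a, ha⟩ ⁻¹ᵁ (chartι (I := I) ⟨U, b, hb⟩).opensRange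
    rw [chartι_preimage_opensRange, W_eq_basicOpen ha hb]
    exact fun h => h hunit
  obtain ⟨ρ₂, hρ₂⟩ : ∃ ρ₂ : CommRingCat.of (ChartRing I U b) ⟶ CommRingCat.of R,
      Spec.map ρ₂ ≫ chartι (I := I) ⟨U, b, hb⟩ =
        Spec.map (CommRingCat.ofHom ρ) ≫ chartι (I := I) ⟨U, a, ha⟩ := by
    refine ⟨Spec.preimage (IsOpenImmersion.lift (chartι (I := I) ⟨U, b, hb⟩)
      (Spec.map (CommRingCat.ofHom ρ) ≫ chartι (I := I) ⟨U, a, ha⟩) ?_), by
      rw [Spec.map_preimage, IsOpenImmersion.lift_fac]⟩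
    rintro _ ⟨z, rfl⟩
    exact mem_of_mem_closedPoint _ hcl' z
  rw [← hρ₂]
  congr 2
  have h : ρ₂ ≫ CommRingCat.ofHom (algebraMap R K) =
      CommRingCat.ofHom ρ' ≫ CommRingCat.ofHom (algebraMap R K) := by
    apply Spec.map_injective
    rw [← cancel_mono (chartι (I := I) ⟨U, b, hb⟩), Spec.map_comp, Spec.map_comp, Category.assoc,
      Category.assoc, hρ₂, hl₁, hl₁']
  ext z
  exact IsFractionRing.injective R K (congrArg (fun m => m.hom z) h)

theorem isProper_blowUpMap (hI : BlowUp.IsFiniteTypeIdeal I) : IsProper (blowUpMap I) :=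
  have := locallyOfFiniteType_blowUpMap hI
  have := quasiCompact_blowUpMap hI
  have := quasiSeparated_blowUpMap hI
  IsProper.of_valuativeCriterion _
    (ValuativeCriterion.iff.2 ⟨valuativeCriterion_existence hI, valuativeCriterion_uniqueness hI⟩)

/-- Blow-ups are unique up to isomorphism. -/
theorem exists_iso_of_isBlowUp {Y Y' : Scheme.{u}} {p : Y ⟶ X} {p' : Y' ⟶ X}
    (hp : BlowUp.IsBlowUp p I) (hp' : BlowUp.IsBlowUp p' I) :
    ∃ e : Y ≅ Y', e.hom ≫ p' = p := by
  obtain ⟨f, hf, -⟩ := hp'.2 Y p hp.1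
  obtain ⟨g, hg, -⟩ := hp.2 Y' p' hp'.1
  refine ⟨⟨f, g, (hp.2 Y p hp.1).unique ?_ (Category.id_comp p),
    (hp'.2 Y' p' hp'.1).unique ?_ (Category.id_comp p')⟩, hf⟩
  · rw [Category.assoc, hg, hf]
  · rw [Category.assoc, hf, hg]

/-- A blow-up in a finite type centre is proper. -/
theorem isProper_of_isBlowUp {Y : Scheme.{u}} {p : Y ⟶ X} (hp : BlowUp.IsBlowUp p I)
    (hI : BlowUp.IsFiniteTypeIdeal I) : IsProper p := by
  obtain ⟨e, he⟩ := exists_iso_of_isBlowUp hp (isBlowUp_blowUpMap (I := I))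
  have := isProper_blowUpMap hI
  rw [← he]
  infer_instance

end Groth.Agent.BlowUpLib
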