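import Groth.Agent.ModPairLib.EffCartier
import Groth.Agent.ProjLib.AffineBlowup

/-!
# Charts of a blow-up

For an affine open `U` and `a ∈ I(U)`, the spectrum of the affine blow-up algebra is final among
morphisms under which the inverse image of `I` is effective Cartier and generated by `a`.
-/

set_option autoImplicit false
set_option backward.isDefEq.respectTransparency.types false

universe u

open CategoryTheory Limits AlgebraicGeometry TopologicalSpace
open Groth.Agent.ModPairLib (res res_res ideal_restrict exists_local)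

namespace Groth.Agent.BlowUpLib

variable {X Y Z : Scheme.{u}} {I : X.IdealSheafData}

theorem mem_nonZeroDivisors_of_eff {E : Y.IdealSheafData} (hE : BlowUp.IsEffCartierIdeal E)
    {V : Y.affineOpens} {a : Γ(Y, V.1)} (ha : E.ideal V = Ideal.span {a}) :
    a ∈ nonZeroDivisors Γ(Y, V.1) := by
  rw [mem_nonZeroDivisors_iff_right]
  intro z hz
  refine Y.IsSheaf.section_ext fun y hy => ?_
  obtain ⟨V', hyV', hle, f, hf, hfE⟩ := exists_local hE y V.1 hy
  refine ⟨V'.1, hle, hyV', ?_⟩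
  rw [map_zero]
  obtain ⟨v, hv⟩ := Ideal.mem_span_singleton'.1
    ((ideal_restrict E hle ha).le (hfE.ge (Ideal.mem_span_singleton_self f)))
  refine (mem_nonZeroDivisors_iff_right.1 hf) _ ?_
  change res hle z * f = 0
  rw [← hv, mul_left_comm, ← map_mul, hz, map_zero, mul_zero]

variable (I) in
/-- `a` generates the inverse image ideal on the affine open `V`. -/
def Generates (g : Y ⟶ X) (U : X.affineOpens) (a : Γ(X, U.1)) (V : Y.affineOpens) : Prop :=
  ∃ e : V.1 ≤ g ⁻¹ᵁ U.1, (I.comap g).ideal V = Ideal.span {(g.appLE U.1 V.1 e).hom a}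

variable (I) in
/-- The open locus where `a` generates the inverse image ideal. -/
noncomputable def locus (g : Y ⟶ X) (U : X.affineOpens) (a : Γ(X, U.1)) : Y.Opens :=
  ⨆ V : {V : Y.affineOpens // Generates I g U a V}, V.1.1

theorem mem_locus {g : Y ⟶ X} {U : X.affineOpens} {a : Γ(X, U.1)} {y : Y} :
    y ∈ locus I g U a ↔ ∃ V : Y.affineOpens, y ∈ V.1 ∧ Generates I g U a V := by
  rw [locus, Opens.mem_iSup]
  exact ⟨fun ⟨⟨V, hV⟩, hy⟩ => ⟨V, hy, hV⟩, fun ⟨V, hy, hV⟩ => ⟨⟨V, hV⟩, hy⟩⟩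

theorem locus_le (g : Y ⟶ X) (U : X.affineOpens) (a : Γ(X, U.1)) : locus I g U a ≤ g ⁻¹ᵁ U.1 :=
  iSup_le fun ⟨_, e, _⟩ => e

theorem Generates.mono {g : Y ⟶ X} {U : X.affineOpens} {a : Γ(X, U.1)} {V V' : Y.affineOpens}
    (h : Generates I g U a V) (hle : V'.1 ≤ V.1) : Generates I g U a V' := by
  obtain ⟨e, he⟩ := h
  refine ⟨hle.trans e, ?_⟩
  rw [ideal_restrict _ hle he]
  refine congrArg (fun x => Ideal.span {x}) ?_
  exact ConcreteCategory.congr_hom (g.appLE_map e (homOfLE hle).op) a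

theorem Generates.comp {g : Y ⟶ X} {U : X.affineOpens} {a : Γ(X, U.1)} {V : Y.affineOpens}
    (h : Generates I g U a V) (j : Z ⟶ Y) {W : Z.affineOpens} (hle : W.1 ≤ j ⁻¹ᵁ V.1) :
    Generates I (j ≫ g) U a W := by
  obtain ⟨e, he⟩ := h
  refine ⟨hle.trans (j.preimage_mono e), ?_⟩
  rw [Scheme.IdealSheafData.comap_comp, ProjLib.comap_ideal_eq _ j V W hle, he, Ideal.map_span,
    Set.image_singleton, ← CommRingCat.comp_apply, Scheme.Hom.appLE_comp_appLE]

theorem le_basicOpen_of_isUnit {U V : Y.Opens} (h : V ≤ U) (c : Γ(Y, U)) (hc : IsUnit (res h c)) :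
    V ≤ Y.basicOpen c := by
  intro y hy
  rw [Scheme.mem_basicOpen Y c y (h hy), ← Y.presheaf.germ_res_apply (homOfLE h) y hy c]
  exact hc.map (Y.presheaf.germ V y hy).hom

variable {U : X.affineOpens} {a : Γ(X, U.1)}

theorem generates_of_isUnit {g : Y ⟶ X} {V V' : Y.affineOpens} (hle : V'.1 ≤ V.1) (hVU : V.1 ≤ g ⁻¹ᵁ U.1)
    {b c : Γ(Y, V.1)} (hb : (I.comap g).ideal V = Ideal.span {b})
    (hc : c * b = (g.appLE U.1 V.1 hVU).hom a) (hu : IsUnit (res hle c)) : Generates I g U a V' := by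
  refine ⟨hle.trans hVU, ?_⟩
  rw [ideal_restrict _ hle hb,
    ← (ConcreteCategory.congr_hom (g.appLE_map hVU (homOfLE hle).op) a : _)]
  show _ = Ideal.span {res hle ((g.appLE U.1 V.1 hVU).hom a)}
  rw [← hc, map_mul, Ideal.span_singleton_mul_left_unit hu]

theorem preimage_locus (ha : a ∈ I.ideal U) (g : Y ⟶ X) (hg : BlowUp.IsEffCartierIdeal (I.comap g))
    (j : Z ⟶ Y) (hjg : BlowUp.IsEffCartierIdeal (I.comap (j ≫ g))) :
    j ⁻¹ᵁ locus I g U a = locus I (j ≫ g) U a := by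
  ext z
  constructor
  · intro hz
    obtain ⟨V, hyV, hV⟩ := mem_locus.1 (show j z ∈ locus I g U a from hz)
    obtain ⟨_, ⟨W, hW, rfl⟩, hzW, hWV⟩ :=
      Z.isBasis_affineOpens.exists_subset_of_mem_open (show z ∈ j ⁻¹ᵁ V.1 from hyV) (j ⁻¹ᵁ V.1).isOpen
    exact mem_locus.2 ⟨⟨W, hW⟩, hzW, hV.comp j (W := ⟨W, hW⟩) hWV⟩
  · intro hz
    obtain ⟨W₀, hzW₀, hW₀⟩ := mem_locus.1 hz
    have hyU : j z ∈ g ⁻¹ᵁ U.1 := hW₀.1 hzW₀
    obtain ⟨V, hyV, hVU, b, -, hb⟩ := exists_local hg (j z) (g ⁻¹ᵁ U.1) hyU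
    obtain ⟨c, hc⟩ := Ideal.mem_span_singleton'.1
      (hb.le (ProjLib.map_ideal_le_comap_ideal I g U V hVU (Ideal.mem_map_of_mem _ ha)))
    obtain ⟨_, ⟨W, hW, rfl⟩, hzW, hWle⟩ := Z.isBasis_affineOpens.exists_subset_of_mem_open
      (show z ∈ W₀.1 ⊓ j ⁻¹ᵁ V.1 from ⟨hzW₀, hyV⟩) (W₀.1 ⊓ j ⁻¹ᵁ V.1).isOpen
    have hWV : W ≤ j ⁻¹ᵁ V.1 := fun w hw => (hWle hw).2
    obtain ⟨e', he'⟩ := hW₀.mono (V' := ⟨W, hW⟩) fun w hw => (hWle hw).1
    let ρ := (j.appLE V.1 W hWV).hom
    have h1 : (I.comap (j ≫ g)).ideal ⟨W, hW⟩ = Ideal.span {ρ b} := by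
      rw [Scheme.IdealSheafData.comap_comp, ProjLib.comap_ideal_eq _ j V ⟨W, hW⟩ hWV, hb,
        Ideal.map_span, Set.image_singleton]
    have hρ : ρ ((g.appLE U.1 V.1 hVU).hom a) = ((j ≫ g).appLE U.1 W e').hom a := by
      rw [← CommRingCat.comp_apply, Scheme.Hom.appLE_comp_appLE]
    obtain ⟨d, hd⟩ := Ideal.mem_span_singleton'.1 (he'.le (h1.ge (Ideal.mem_span_singleton_self _)))
    have hu : IsUnit (ρ c) := by
      refine IsUnit.of_mul_eq_one d ?_
      refine (mul_cancel_right_mem_nonZeroDivisors (mem_nonZeroDivisors_of_eff hjg h1)).1 ?_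
      rw [one_mul, mul_right_comm, ← map_mul, hc, hρ, mul_comm, hd]
    have hmem : j z ∈ Y.basicOpen c := by
      have hzc : z ∈ Z.basicOpen ((j.app V.1).hom c) := by
        refine le_basicOpen_of_isUnit hWV _ ?_ hzW
        exact hu
      rw [← Scheme.preimage_basicOpen] at hzc
      exact hzc
    exact mem_locus.2 ⟨Y.affineBasicOpen c, hmem, generates_of_isUnit (V' := Y.affineBasicOpen c)
      (Y.basicOpen_le c) hVU hb hc (RingedSpace.isUnit_res_basicOpen Y.toRingedSpace c)⟩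

/-- Given generators of `I(U)`, the loci cover the preimage of `U`. -/
theorem exists_mem_locus (g : Y ⟶ X) (hg : BlowUp.IsEffCartierIdeal (I.comap g)) {y : Y}
    (U : X.affineOpens) (hy : y ∈ g ⁻¹ᵁ U.1) (s : Set Γ(X, U.1)) (hs : Ideal.span s = I.ideal U) :
    ∃ a ∈ s, y ∈ locus I g U a := by
  obtain ⟨V, hyV, hVU, b, hb, hbI⟩ := exists_local hg y (g ⁻¹ᵁ U.1) hy
  let φ := (g.appLE U.1 V.1 hVU).hom
  let p : Ideal Γ(Y, V.1) :=
    (IsLocalRing.maximalIdeal (Y.presheaf.stalk y)).comap (Y.presheaf.germ V.1 y hyV).hom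
  have hmap : Ideal.span (φ '' s) = Ideal.span {b} := by
    rw [← hbI, ProjLib.comap_ideal_eq I g U V hVU, ← hs, Ideal.map_span]
  obtain ⟨a, has, d, hd, hda⟩ : ∃ a ∈ s, ∃ d, d ∉ p ∧ d * b = φ a := by
    by_contra hcon
    push Not at hcon
    have : Ideal.span (φ '' s) ≤ p * Ideal.span {b} := by
      rw [Ideal.span_le]
      rintro _ ⟨a, ha, rfl⟩
      obtain ⟨d, hd⟩ := Ideal.mem_span_singleton'.1
        (hmap.le (Ideal.subset_span ⟨a, ha, rfl⟩))
      exact Ideal.mem_mul_span_singleton.2 ⟨d, by_contra fun hdp => hcon a ha d hdp hd, hd⟩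
    obtain ⟨d, hd, hdb⟩ := Ideal.mem_mul_span_singleton.1
      (this (hmap.ge (Ideal.mem_span_singleton_self b)))
    have : d = 1 := (mul_cancel_right_mem_nonZeroDivisors hb).1 (hdb.trans (one_mul b).symm)
    subst this
    exact (Ideal.ne_top_iff_one p).1 (Ideal.comap_ne_top _ (IsLocalRing.maximalIdeal.isMaximal _).ne_top) hd
  have hmem : y ∈ Y.basicOpen d := by
    rw [Scheme.mem_basicOpen Y d y hyV]
    exact IsLocalRing.notMem_maximalIdeal.1 hd
  exact ⟨a, has, mem_locus.2 ⟨Y.affineBasicOpen d, hmem, generates_of_isUnit (V' := Y.affineBasicOpen d)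
    (Y.basicOpen_le d) hVU hbI hda (RingedSpace.isUnit_res_basicOpen Y.toRingedSpace d)⟩⟩

theorem fromSpec_comp_appLE (g₀ : Y ⟶ Spec Γ(X, U.1)) (e : ⊤ ≤ (g₀ ≫ U.2.fromSpec) ⁻¹ᵁ U.1) :
    (g₀ ≫ U.2.fromSpec).appLE U.1 ⊤ e = (Scheme.ΓSpecIso Γ(X, U.1)).inv ≫ g₀.appTop := by
  simp only [Scheme.Hom.appLE, Scheme.Hom.comp_app, U.2.fromSpec_app_self, Category.assoc]
  refine (Category.assoc _ _ _).trans (congrArg ((Scheme.ΓSpecIso Γ(X, U.1)).inv ≫ ·) ?_)
  refine (Category.assoc _ _ _).trans ?_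
  erw [g₀.naturality_assoc, ← Functor.map_comp]
  exact (congrArg (g₀.app ⊤ ≫ ·) ((congrArg Y.presheaf.map (Subsingleton.elim _ (𝟙 _))).trans
    (Y.presheaf.map_id _))).trans (Category.comp_id _)

section chart

variable (I U a)

/-- The ring of the chart. -/
abbrev ChartRing : Type u := ↥(BlowUp.affineAlgebra Γ(X, U.1) (I.ideal U) a)

/-- The chart. -/
noncomputable abbrev chart : Scheme.{u} := Spec (CommRingCat.of (ChartRing I U a))

/-- The structure map of the chart. -/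
noncomputable def chartMap : chart I U a ⟶ X :=
  Spec.map (CommRingCat.ofHom (algebraMap Γ(X, U.1) (ChartRing I U a))) ≫ U.2.fromSpec

variable {I U a}

theorem algebraMap_self_mem_nonZeroDivisors :
    algebraMap Γ(X, U.1) (ChartRing I U a) a ∈ nonZeroDivisors (ChartRing I U a) := by
  rw [mem_nonZeroDivisors_iff_right]
  intro z hz
  refine Subtype.ext ?_
  have h := congrArg Subtype.val hz
  exact (IsLocalization.Away.algebraMap_isUnit (S := Localization.Away a) a).mul_left_eq_zero.1 h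

/-- The fraction `x / a` in the chart ring. -/
noncomputable def frac (x : Γ(X, U.1)) (hx : x ∈ I.ideal U) : ChartRing I U a :=
  ⟨_, ProjLib.frac_mem_affineAlgebra (π := a) hx⟩

theorem frac_mul (x : Γ(X, U.1)) (hx : x ∈ I.ideal U) :
    frac (a := a) x hx * algebraMap Γ(X, U.1) (ChartRing I U a) a = algebraMap _ _ x :=
  Subtype.ext (IsLocalization.mk'_spec (M := Submonoid.powers a) (Localization.Away a) x
    ⟨a, Submonoid.mem_powers a⟩)

variable (ha : a ∈ I.ideal U)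
include ha

theorem map_ideal_eq_span : (I.ideal U).map (algebraMap Γ(X, U.1) (ChartRing I U a)) =
    Ideal.span {algebraMap Γ(X, U.1) (ChartRing I U a) a} := by
  refine le_antisymm (Ideal.map_le_iff_le_comap.2 fun x hx => ?_) ?_
  · exact Ideal.mem_span_singleton'.2 ⟨frac x hx, frac_mul x hx⟩
  · rw [Ideal.span_singleton_le_iff_mem]
    exact Ideal.mem_map_of_mem _ ha

theorem generates_chartMap :
    Generates I (chartMap I U a) U a ⟨⊤, isAffineOpen_top _⟩ ∧
      BlowUp.IsEffCartierIdeal (I.comap (chartMap I U a)) := by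
  have e : (⊤ : (chart I U a).Opens) ≤ chartMap I U a ⁻¹ᵁ U.1 := fun z _ => by
    show U.2.fromSpec _ ∈ U.1
    rw [← SetLike.mem_coe, ← U.2.range_fromSpec]
    exact ⟨_, rfl⟩
  have happ : (chartMap I U a).appLE U.1 ⊤ e =
      CommRingCat.ofHom (algebraMap Γ(X, U.1) (ChartRing I U a)) ≫
        (Scheme.ΓSpecIso (CommRingCat.of (ChartRing I U a))).inv := by
    refine (fromSpec_comp_appLE _ e).trans ?_
    exact (Scheme.ΓSpecIso_inv_naturality _).symm
  have hid : (I.comap (chartMap I U a)).ideal ⟨⊤, isAffineOpen_top _⟩ =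
      Ideal.span {((chartMap I U a).appLE U.1 ⊤ e).hom a} := by
    rw [ProjLib.comap_ideal_eq I _ U ⟨⊤, isAffineOpen_top _⟩ e, happ, CommRingCat.hom_comp,
      ← Ideal.map_map, CommRingCat.hom_ofHom, map_ideal_eq_span ha, Ideal.map_span, Set.image_singleton]
    rfl
  refine ⟨⟨e, hid⟩, fun z => ⟨⟨⊤, isAffineOpen_top _⟩, trivial, _, ?_, hid⟩⟩
  rw [happ]
  exact mem_nonZeroDivisors_of_injective
    (f := (Scheme.ΓSpecIso (CommRingCat.of (ChartRing I U a))).hom.hom)
    (ConcreteCategory.bijective_of_isIso _).1 (by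
      convert algebraMap_self_mem_nonZeroDivisors (I := I) (a := a)
      exact congrArg (fun φ => φ.hom (algebraMap Γ(X, U.1) (ChartRing I U a) a))
        (Scheme.ΓSpecIso (CommRingCat.of (ChartRing I U a))).inv_hom_id)

theorem locus_chartMap : locus I (chartMap I U a) U a = ⊤ :=
  top_le_iff.1 fun _ _ => mem_locus.2 ⟨⟨⊤, isAffineOpen_top _⟩, trivial, (generates_chartMap ha).1⟩

/-- Universal property of the chart. -/
theorem existsUnique_lift (g : Y ⟶ X) (hg : BlowUp.IsEffCartierIdeal (I.comap g))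
    (hloc : locus I g U a = ⊤) : ∃! h : Y ⟶ chart I U a, h ≫ chartMap I U a = g := by
  let g₀ := IsOpenImmersion.lift U.2.fromSpec g (by
    rw [U.2.range_fromSpec]
    rintro _ ⟨y, rfl⟩
    exact locus_le g U a (hloc.ge trivial))
  have hg₀ : g₀ ≫ U.2.fromSpec = g := IsOpenImmersion.lift_fac _ _ _
  let φ := (Scheme.ΓSpecIso Γ(X, U.1)).inv ≫ g₀.appTop
  let aR : Γ(Y, ⊤) := φ.hom a
  have key : ∀ V : Y.affineOpens, Generates I g U a V →
      (I.comap g).ideal V = Ideal.span {res (le_top : V.1 ≤ ⊤) aR} ∧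
      ∀ x ∈ I.ideal U, ∃ t : Γ(Y, V.1),
        t * res (le_top : V.1 ≤ ⊤) aR = res (le_top : V.1 ≤ ⊤) (φ.hom x) := by
    rintro V ⟨e, he⟩
    have hφ : ∀ x, res (le_top : V.1 ≤ ⊤) (φ.hom x) = (g.appLE U.1 V.1 e).hom x := by
      intro x
      have e' : ⊤ ≤ (g₀ ≫ U.2.fromSpec) ⁻¹ᵁ U.1 := by
        rw [hg₀]; exact hloc.ge.trans (locus_le g U a)
      have h1 := fromSpec_comp_appLE g₀ e'
      have h2 : g.appLE U.1 ⊤ (hloc.ge.trans (locus_le g U a)) = φ := by
        simp only [φ, ← h1, hg₀]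
      rw [← h2]
      exact ConcreteCategory.congr_hom (g.appLE_map _ (homOfLE le_top).op) x
    refine ⟨by rw [hφ]; exact he, fun x hx => ?_⟩
    have := ProjLib.map_ideal_le_comap_ideal I g U V e (Ideal.mem_map_of_mem _ hx)
    rw [he, Ideal.mem_span_singleton'] at this
    obtain ⟨t, ht⟩ := this
    exact ⟨t, by rw [hφ, hφ]; exact ht⟩
  have hnzd : ∀ (W : Y.Opens) (t : Γ(Y, W)), t * res le_top aR = 0 → t = 0 := by
    intro W t ht
    refine Y.IsSheaf.section_ext fun y hy => ?_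
    obtain ⟨V, hyV, hV⟩ := mem_locus.1 (hloc.ge (trivial : y ∈ (⊤ : Y.Opens)))
    obtain ⟨_, ⟨V', hV', rfl⟩, hyV', hle⟩ := Y.isBasis_affineOpens.exists_subset_of_mem_open
      (show y ∈ V.1 ⊓ W from ⟨hyV, hy⟩) (V.1 ⊓ W).isOpen
    refine ⟨V', fun w hw => (hle hw).2, hyV', ?_⟩
    rw [map_zero]
    refine mem_nonZeroDivisors_iff_right.1 (mem_nonZeroDivisors_of_eff hg
      (key ⟨V', hV'⟩ (hV.mono fun w hw => (hle hw).1)).1) _ ?_
    change res (fun w hw => (hle hw).2) t * _ = 0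
    rw [← res_res (le_top : W ≤ ⊤) (fun w hw => (hle hw).2), ← map_mul, ht, map_zero]
  have hdiv : ∀ x ∈ I.ideal U, ∃ t : Γ(Y, ⊤), t * aR = φ.hom x := by
    intro x hx
    let ι := {V : Y.affineOpens // Generates I g U a V}
    have hloc' : ∀ V : ι, ∃ t : Γ(Y, V.1.1),
        t * res le_top aR = res (le_top : V.1.1 ≤ ⊤) (φ.hom x) := fun V => (key V.1 V.2).2 x hx
    choose t ht using hloc'
    have hcompat : ∀ V V' : ι, res (inf_le_left : V.1.1 ⊓ V'.1.1 ≤ V.1.1) (t V) =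
        res (inf_le_right : V.1.1 ⊓ V'.1.1 ≤ V'.1.1) (t V') := by
      intro V V'
      refine sub_eq_zero.1 (hnzd _ _ ?_)
      rw [sub_mul, sub_eq_zero]
      conv_lhs => rw [← res_res (le_top : V.1.1 ≤ ⊤) inf_le_left, ← map_mul, ht, res_res]
      conv_rhs => rw [← res_res (le_top : V'.1.1 ≤ ⊤) inf_le_right, ← map_mul, ht, res_res]
    obtain ⟨(T : Γ(Y, ⊤)), hT, -⟩ := Y.sheaf.existsUnique_gluing' (fun V : ι => V.1.1) ⊤
      (fun V => homOfLE le_top)
      (fun y hy => by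
        obtain ⟨V, hyV, hV⟩ := mem_locus.1 (hloc.ge hy)
        exact Opens.mem_iSup.2 ⟨⟨V, hV⟩, hyV⟩) t (fun V V' => hcompat V V')
    refine ⟨T, Y.IsSheaf.section_ext fun y _ => ?_⟩
    obtain ⟨V, hyV, hV⟩ := mem_locus.1 (hloc.ge (trivial : y ∈ (⊤ : Y.Opens)))
    refine ⟨V.1, le_top, hyV, ?_⟩
    change res le_top (T * aR) = res le_top (φ.hom x)
    rw [map_mul, show res le_top T = t ⟨V, hV⟩ from hT ⟨V, hV⟩]
    exact ht ⟨V, hV⟩
  have haR : aR ∈ nonZeroDivisors Γ(Y, ⊤) := by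
    rw [mem_nonZeroDivisors_iff_right]
    intro t ht
    refine hnzd ⊤ t ?_
    rw [← ht]
    congr 1
    exact (ConcreteCategory.congr_hom (Y.presheaf.map_id _) aR)
  -- the ring map
  have hinj : Function.Injective (algebraMap Γ(Y, ⊤) (Localization.Away (φ.hom a))) :=
    IsLocalization.injective _ (Submonoid.powers_le.2 haR)
  have hmem : ∀ z : ChartRing I U a, Localization.awayMap φ.hom a (z : Localization.Away a) ∈
      (algebraMap Γ(Y, ⊤) (Localization.Away (φ.hom a))).range := by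
    rintro ⟨z, hz⟩
    show Localization.awayMap φ.hom a z ∈ _
    induction hz using Algebra.adjoin_induction with
    | algebraMap r => exact ⟨φ.hom r, (ProjLib.awayMap_algebraMap φ.hom a r).symm⟩
    | add x y _ _ hx hy => rw [map_add]; exact add_mem hx hy
    | mul x y _ _ hx hy => rw [map_mul]; exact mul_mem hx hy
    | mem q hq =>
      obtain ⟨x, hx, rfl⟩ := hq
      obtain ⟨t, ht⟩ := hdiv x hx
      refine ⟨t, ?_⟩
      apply (IsLocalization.Away.algebraMap_isUnit (S := Localization.Away (φ.hom a))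
        (φ.hom a)).mul_left_injective
      beta_reduce
      rw [← map_mul, ht, ← ProjLib.awayMap_algebraMap φ.hom a a, ← map_mul,
        IsLocalization.mk'_spec (M := Submonoid.powers a) (Localization.Away a) x
          ⟨a, Submonoid.mem_powers a⟩, ProjLib.awayMap_algebraMap]
  let eR := RingEquiv.ofBijective (algebraMap Γ(Y, ⊤) (Localization.Away (φ.hom a))).rangeRestrict
    ⟨fun x y h => hinj (congrArg Subtype.val h), RingHom.rangeRestrict_surjective _⟩
  let ψ : ChartRing I U a →+* Γ(Y, ⊤) := eR.symm.toRingHom.comp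
    (((Localization.awayMap φ.hom a).comp
      (BlowUp.affineAlgebra Γ(X, U.1) (I.ideal U) a).val.toRingHom).codRestrict _ hmem)
  have hψ : ψ.comp (algebraMap Γ(X, U.1) (ChartRing I U a)) = φ.hom := by
    ext r
    apply hinj
    have : ((eR (ψ (algebraMap Γ(X, U.1) (ChartRing I U a) r)) : _) : Localization.Away (φ.hom a)) =
        Localization.awayMap φ.hom a (algebraMap Γ(X, U.1) (Localization.Away a) r) :=
      congrArg Subtype.val (eR.apply_symm_apply _)
    exact this.trans (ProjLib.awayMap_algebraMap φ.hom a r)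
  have hiff : ∀ h : Y ⟶ chart I U a, h ≫ chartMap I U a = g ↔
      ((Scheme.ΓSpecIso _).inv ≫ h.appTop).hom.comp (algebraMap Γ(X, U.1) (ChartRing I U a)) = φ.hom := by
    intro h
    rw [chartMap, ← hg₀, ← Category.assoc, cancel_mono]
    constructor
    · intro h'
      have := congrArg (fun m => ((Scheme.ΓSpecIso _).inv ≫ Scheme.Hom.appTop m).hom) h'
      rw [← CommRingCat.hom_ofHom (algebraMap Γ(X, U.1) (ChartRing I U a)), ← CommRingCat.hom_comp]
      rw [Scheme.ΓSpecIso_inv_naturality_assoc, ← Scheme.Hom.comp_appTop]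
      exact this
    · intro h'
      refine ext_of_isAffine ?_
      rw [← cancel_epi (Scheme.ΓSpecIso Γ(X, U.1)).inv, Scheme.Hom.comp_appTop,
        ← Scheme.ΓSpecIso_inv_naturality_assoc]
      exact CommRingCat.hom_ext h'
  refine ⟨Y.toSpecΓ ≫ Spec.map (CommRingCat.ofHom ψ), (hiff _).2 ?_, fun h hh => ?_⟩
  · have : (Scheme.ΓSpecIso (CommRingCat.of (ChartRing I U a))).inv ≫
        (Y.toSpecΓ ≫ Spec.map (CommRingCat.ofHom ψ)).appTop = CommRingCat.ofHom ψ := by
      simp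
    rw [this]
    exact hψ
  · have h1 := (hiff h).1 hh
    refine ext_of_isAffine ?_
    rw [← cancel_epi (Scheme.ΓSpecIso (CommRingCat.of (ChartRing I U a))).inv]
    have : (Scheme.ΓSpecIso (CommRingCat.of (ChartRing I U a))).inv ≫
        (Y.toSpecΓ ≫ Spec.map (CommRingCat.ofHom ψ)).appTop = CommRingCat.ofHom ψ := by
      simp
    rw [this]
    ext z
    let θ := ((Scheme.ΓSpecIso (CommRingCat.of (ChartRing I U a))).inv ≫ h.appTop).hom
    show θ z = ψ z
    obtain ⟨z, hz⟩ := z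
    have hα : ∀ r, θ (algebraMap Γ(X, U.1) (ChartRing I U a) r) =
        ψ (algebraMap Γ(X, U.1) (ChartRing I U a) r) :=
      fun r => (RingHom.congr_fun h1 r).trans (RingHom.congr_fun hψ r).symm
    induction hz using Algebra.adjoin_induction with
    | algebraMap r => exact hα r
    | add x y hx hy hx' hy' =>
      exact (map_add θ ⟨x, hx⟩ ⟨y, hy⟩).trans ((congrArg₂ (· + ·) hx' hy').trans (map_add ψ _ _).symm)
    | mul x y hx hy hx' hy' =>
      exact (map_mul θ ⟨x, hx⟩ ⟨y, hy⟩).trans ((congrArg₂ (· * ·) hx' hy').trans (map_mul ψ _ _).symm)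
    | mem q hq =>
      obtain ⟨x, hx, rfl⟩ := hq
      refine (mul_cancel_right_mem_nonZeroDivisors haR).1 ?_
      show θ (frac x hx) * aR = ψ (frac x hx) * aR
      rw [show aR = θ (algebraMap Γ(X, U.1) (ChartRing I U a) a) from (RingHom.congr_fun h1 a).symm,
        ← map_mul, hα a, ← map_mul, frac_mul, hα]

end chart

end Groth.Agent.BlowUpLib
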