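import Groth.Agent.BlowUpLib.Exists
import Groth.Prelude.Def_CurvBase

/-!
# A single chart as the whole blow-up

If `a ∈ I` and `I ^ 2 ⊆ a • I`, then the chart `A[I/a]` is already the blow-up of `Spec A` in `I`.
-/

set_option autoImplicit false
set_option backward.isDefEq.respectTransparency.types false

universe u

open CategoryTheory Limits AlgebraicGeometry TopologicalSpace

namespace Groth.Agent.BlowUpLib

open Groth.Agent.ModPairLib (exists_local)

variable {X Y : Scheme.{u}} {I : X.IdealSheafData} {U : X.affineOpens} {a : Γ(X, U.1)}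

theorem locus_eq_top_of_mul_mem (hU : U.1 = ⊤) (ha : a ∈ I.ideal U)
    (hsq : I.ideal U * I.ideal U ≤ Ideal.span {a} * I.ideal U)
    (g : Y ⟶ X) (hg : BlowUp.IsEffCartierIdeal (I.comap g)) : locus I g U a = ⊤ := by
  refine top_le_iff.1 fun y _ => ?_
  obtain ⟨V, hyV, hVU, b, hb, hbI⟩ := exists_local hg y (g ⁻¹ᵁ U.1)
    (show g y ∈ U.1 by rw [hU]; trivial)
  let φ := (g.appLE U.1 V.1 hVU).hom
  have hmap : (I.ideal U).map φ = Ideal.span {b} := by
    rw [← hbI, ProjLib.comap_ideal_eq I g U V hVU]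
  obtain ⟨c, hc⟩ := Ideal.mem_span_singleton'.1 (hmap.le (Ideal.mem_map_of_mem φ ha))
  have hbb : b * b ∈ Ideal.span {φ a * b} := by
    have h1 := Ideal.map_mono (f := φ) hsq
    rw [Ideal.map_mul, Ideal.map_mul, hmap, Ideal.map_span, Set.image_singleton,
      Ideal.span_singleton_mul_span_singleton, Ideal.span_singleton_mul_span_singleton] at h1
    exact h1 (Ideal.mem_span_singleton_self _)
  obtain ⟨d, hd⟩ := Ideal.mem_span_singleton'.1 hbb
  have hdb : d * φ a = b := by
    refine (mul_cancel_right_mem_nonZeroDivisors hb).1 ?_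
    rw [mul_assoc]
    exact hd
  refine mem_locus.2 ⟨V, hyV, hVU, ?_⟩
  rw [hbI]
  refine le_antisymm ?_ ?_
  · rw [Ideal.span_singleton_le_iff_mem]
    exact Ideal.mem_span_singleton'.2 ⟨d, hdb⟩
  · rw [Ideal.span_singleton_le_iff_mem]
    exact Ideal.mem_span_singleton'.2 ⟨c, hc⟩

theorem isBlowUp_chartMap (hU : U.1 = ⊤) (ha : a ∈ I.ideal U)
    (hsq : I.ideal U * I.ideal U ≤ Ideal.span {a} * I.ideal U) :
    BlowUp.IsBlowUp (chartMap I U a) I :=
  ⟨(generates_chartMap ha).2, fun _ g hg =>
    existsUnique_lift ha g hg (locus_eq_top_of_mul_mem hU ha hsq g hg)⟩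

theorem isBlowUp_iso_comp {X' X'' : Scheme.{u}} (σ : X'' ⟶ X') [IsIso σ] {b : X' ⟶ X}
    (h : BlowUp.IsBlowUp b I) : BlowUp.IsBlowUp (σ ≫ b) I := by
  refine ⟨good_comp h.1 σ, fun Y g hg => ?_⟩
  obtain ⟨k, hk, huniq⟩ := h.2 Y g hg
  refine ⟨k ≫ inv σ, by simp [hk], fun k' hk' => ?_⟩
  rw [IsIso.eq_comp_inv]
  exact huniq _ (show (k' ≫ σ) ≫ b = g by rw [Category.assoc]; exact hk')

/-- The affine statement: if `A → B` is injective, `I B ⊆ I` and `I B` is generated by a
nonzerodivisor `f`, then `Spec B → Spec A` is the blow-up in `I`. -/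
theorem isBlowUp_of_extension (A B : Type u) [CommRing A] [CommRing B] [Algebra A B]
    (hinj : Function.Injective (algebraMap A B)) (I : Ideal A)
    (hIB : (Ideal.map (algebraMap A B) I : Set B) ⊆ algebraMap A B '' (I : Set A))
    (f : B) (hf : f ∈ nonZeroDivisors B) (hgen : Ideal.map (algebraMap A B) I = Ideal.span {f}) :
    BlowUp.IsBlowUp (Spec.map (CommRingCat.ofHom (algebraMap A B))) (Curv2.idealSheaf A I) := by
  let S : Scheme.{u} := Spec (CommRingCat.of A)
  let U : S.affineOpens := ⟨⊤, isAffineOpen_top S⟩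
  let ε := (Scheme.ΓSpecIso (CommRingCat.of A))
  let 𝓘 := Curv2.idealSheaf A I
  have hideal : 𝓘.ideal U = I.map ε.inv.hom := by
    show (Scheme.IdealSheafData.ofIdealTop _).ideal _ = _
    rw [Scheme.IdealSheafData.ofIdealTop_ideal]
    show (I.map ε.inv.hom).map (S.presheaf.map (homOfLE le_top).op).hom = _
    rw [Subsingleton.elim (homOfLE le_top).op (𝟙 (Opposite.op (⊤ : S.Opens))),
      S.presheaf.map_id]
    exact Ideal.map_id _
  obtain ⟨a₀, ha₀, hfa⟩ := hIB (hgen.ge (Ideal.mem_span_singleton_self f))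
  let a : Γ(S, U.1) := ε.inv.hom a₀
  have ha : a ∈ 𝓘.ideal U := hideal ▸ Ideal.mem_map_of_mem _ ha₀
  have hsq : 𝓘.ideal U * 𝓘.ideal U ≤ Ideal.span {a} * 𝓘.ideal U := by
    have h2 : I * I ≤ Ideal.span {a₀} * I := by
      rw [Ideal.mul_le]
      intro x hx y hy
      obtain ⟨b, hb⟩ := Ideal.mem_span_singleton'.1 (hgen.le (Ideal.mem_map_of_mem _ hx))
      obtain ⟨z, hz, hzy⟩ := hIB (Ideal.mul_mem_left _ b (Ideal.mem_map_of_mem (algebraMap A B) hy))
      have : x * y = a₀ * z := by
        apply hinj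
        rw [map_mul, map_mul, hzy, hfa, ← hb]
        ring
      rw [this]
      exact Ideal.mul_mem_mul (Ideal.mem_span_singleton_self _) hz
    rw [hideal]
    have h3 := Ideal.map_mono (f := ε.inv.hom) h2
    rw [Ideal.map_mul, Ideal.map_mul, Ideal.map_span, Set.image_singleton] at h3
    exact h3
  -- the ring isomorphism
  let φ : Γ(S, U.1) →+* B := (algebraMap A B).comp ε.hom.hom
  have hφ : ∀ r, φ (ε.inv.hom r) = algebraMap A B r := fun r =>
    congrArg (algebraMap A B) (ConcreteCategory.congr_hom ε.inv_hom_id r)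
  have hφa : φ a = f := (hφ a₀).trans hfa
  have hφinj : Function.Injective φ := hinj.comp (ConcreteCategory.bijective_of_isIso ε.hom).1
  let γ : Γ(S, U.1) →+* Localization.Away f := (algebraMap B (Localization.Away f)).comp φ
  have hBK : Function.Injective (algebraMap B (Localization.Away f)) :=
    IsLocalization.injective _ (Submonoid.powers_le.2 hf)
  have hunit : IsUnit (γ a) := by
    show IsUnit (algebraMap B (Localization.Away f) (φ a))
    rw [hφa]
    exact IsLocalization.Away.algebraMap_isUnit f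
  let θ : Localization.Away a →+* Localization.Away f := IsLocalization.Away.lift a hunit
  have hθ : ∀ r, θ (algebraMap _ _ r) = γ r := IsLocalization.Away.lift_eq a hunit
  have hθinj : Function.Injective θ := by
    rw [injective_iff_map_eq_zero]
    intro q hq
    obtain ⟨r, s, rfl⟩ := IsLocalization.exists_mk'_eq (Submonoid.powers a) q
    have h1 : γ r = 0 := by
      rw [← hθ, ← IsLocalization.mk'_spec (Localization.Away a) r s, map_mul, hq, zero_mul]
    rw [hφinj (hBK (h1.trans ((map_zero (algebraMap B (Localization.Away f))).symm.trans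
      (congrArg _ (map_zero φ).symm)))), IsLocalization.mk'_zero]
  have hrange : ∀ q : ChartRing 𝓘 U a, θ (q : Localization.Away a) ∈
      (algebraMap B (Localization.Away f)).range := by
    rintro ⟨q, hq⟩
    show θ q ∈ _
    induction hq using Algebra.adjoin_induction with
    | algebraMap r => exact ⟨φ r, (hθ r).symm⟩
    | add x y _ _ hx hy => rw [map_add]; exact add_mem hx hy
    | mul x y _ _ hx hy => rw [map_mul]; exact mul_mem hx hy
    | mem q hq =>
      obtain ⟨x, hx, rfl⟩ := hq
      have hx' : φ x ∈ Ideal.span {f} := by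
        rw [← hgen]
        have := Ideal.mem_map_of_mem φ (hideal.le hx)
        rw [Ideal.map_map] at this
        rw [show φ.comp ε.inv.hom = algebraMap A B from RingHom.ext hφ] at this
        exact this
      obtain ⟨b, hb⟩ := Ideal.mem_span_singleton'.1 hx'
      refine ⟨b, hunit.mul_left_injective ?_⟩
      show algebraMap B _ b * γ a = θ _ * γ a
      rw [← hθ a, ← map_mul, IsLocalization.mk'_spec (M := Submonoid.powers a) (Localization.Away a) x
          ⟨a, Submonoid.mem_powers a⟩, hθ, hθ]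
      show algebraMap B _ b * algebraMap B _ (φ a) = algebraMap B _ (φ x)
      rw [hφa, ← map_mul, hb]
  let eB := RingEquiv.ofBijective (algebraMap B (Localization.Away f)).rangeRestrict
    ⟨fun x y h => hBK (congrArg Subtype.val h), RingHom.rangeRestrict_surjective _⟩
  let e : ChartRing 𝓘 U a →+* B := eB.symm.toRingHom.comp
    ((θ.comp (BlowUp.affineAlgebra Γ(S, U.1) (𝓘.ideal U) a).val.toRingHom).codRestrict _ hrange)
  have he : ∀ q : ChartRing 𝓘 U a, algebraMap B (Localization.Away f) (e q) = θ q := fun q =>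
    congrArg Subtype.val (eB.apply_symm_apply _)
  have hebij : Function.Bijective e := by
    refine ⟨fun q q' h => Subtype.ext (hθinj ?_), fun b => ?_⟩
    · rw [← he, ← he, h]
    · obtain ⟨x, hx, hxb⟩ := hIB (Ideal.mul_mem_left _ b (hgen.ge (Ideal.mem_span_singleton_self f)))
      have hx' : ε.inv.hom x ∈ 𝓘.ideal U := hideal ▸ Ideal.mem_map_of_mem _ hx
      refine ⟨frac _ hx', hBK (hunit.mul_left_injective ?_)⟩
      show algebraMap B _ (e _) * γ a = algebraMap B _ b * γ a
      rw [he, ← hθ a, ← map_mul]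
      show θ (_ * _) = _
      rw [show (frac (a := a) (ε.inv.hom x) hx' : Localization.Away a) * algebraMap _ _ a =
          algebraMap _ _ (ε.inv.hom x) from congrArg Subtype.val (frac_mul _ hx'), hθ, hθ]
      show algebraMap B _ (φ _) = algebraMap B _ b * algebraMap B _ (φ a)
      rw [hφ, hxb, hφa, map_mul]
  have hemap : e.comp (algebraMap Γ(S, U.1) (ChartRing 𝓘 U a)) = φ := by
    ext r
    exact hBK ((he _).trans (hθ r))
  let σ : Spec (CommRingCat.of B) ⟶ chart 𝓘 U a := Spec.map (CommRingCat.ofHom e)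
  haveI : IsIso (CommRingCat.ofHom e) :=
    (RingEquiv.ofBijective e hebij).toCommRingCatIso.isIso_hom
  haveI : IsIso σ := inferInstanceAs (IsIso (Spec.map (CommRingCat.ofHom e)))
  have hcomp : σ ≫ chartMap 𝓘 U a = Spec.map (CommRingCat.ofHom (algebraMap A B)) := by
    show Spec.map _ ≫ Spec.map _ ≫ (isAffineOpen_top S).fromSpec = _
    rw [IsAffineOpen.fromSpec_top, Scheme.isoSpec_Spec_inv, ← Spec.map_comp, ← Spec.map_comp]
    congr 1
    ext r
    exact (RingHom.congr_fun hemap _).trans (hφ r)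
  rw [← hcomp]
  exact isBlowUp_iso_comp σ (isBlowUp_chartMap rfl ha hsq)

end Groth.Agent.BlowUpLib
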