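import Groth.Agent.BlowUpLib.Proper
import Groth.Agent.BlowUpLib.AffineExt

/-!
# Being a blow-up is local on the base
-/

set_option autoImplicit false
set_option backward.isDefEq.respectTransparency.types false

universe u

open CategoryTheory Limits AlgebraicGeometry TopologicalSpace

namespace Groth.Agent.BlowUpLib

variable {X X' : Scheme.{u}} {I : X.IdealSheafData} {b : X' ⟶ X}

theorem isBlowUp_restrict (hb : BlowUp.IsBlowUp b I) (U : X.Opens) :
    BlowUp.IsBlowUp (b ∣_ U) (I.comap U.ι) := by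
  refine ⟨?_, fun Z g hg => ?_⟩
  · rw [← Scheme.IdealSheafData.comap_comp, morphismRestrict_ι]
    exact good_comp hb.1 _
  · rw [← Scheme.IdealSheafData.comap_comp] at hg
    obtain ⟨h, hh, hu⟩ := hb.2 Z _ hg
    let h' := IsOpenImmersion.lift (b ⁻¹ᵁ U).ι h (by
      rw [Scheme.Opens.range_ι]
      rintro _ ⟨z, rfl⟩
      show b (h z) ∈ U
      rw [← Scheme.Hom.comp_apply, hh]
      exact (g z).2)
    have hh' : h' ≫ (b ⁻¹ᵁ U).ι = h := IsOpenImmersion.lift_fac _ _ _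
    refine ⟨h', ?_, fun k hk => ?_⟩
    · show h' ≫ b ∣_ U = g
      rw [← cancel_mono U.ι, Category.assoc, morphismRestrict_ι, reassoc_of% hh', hh]
    · rw [← cancel_mono (b ⁻¹ᵁ U).ι, hh']
      refine hu _ ?_
      show (k ≫ (b ⁻¹ᵁ U).ι) ≫ b = g ≫ U.ι
      rw [Category.assoc, ← morphismRestrict_ι, ← Category.assoc]
      exact congrArg (· ≫ U.ι) hk

theorem isBlowUp_of_iso_right {Y : Scheme.{u}} (τ : X ⟶ Y) [IsIso τ] (J : Y.IdealSheafData)
    (hJ : J.comap τ = I) (h : BlowUp.IsBlowUp b I) : BlowUp.IsBlowUp (b ≫ τ) J := by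
  subst hJ
  refine ⟨by rw [Scheme.IdealSheafData.comap_comp]; exact h.1, fun Z g hg => ?_⟩
  obtain ⟨k, hk, hu⟩ := h.2 Z (g ≫ inv τ) (by
    rw [← Scheme.IdealSheafData.comap_comp, Category.assoc, IsIso.inv_hom_id, Category.comp_id]
    exact hg)
  refine ⟨k, ?_, fun k' hk' => hu k' ?_⟩
  · show k ≫ b ≫ τ = g
    rw [reassoc_of% hk, IsIso.inv_hom_id, Category.comp_id]
  · show k' ≫ b = g ≫ inv τ
    rw [IsIso.eq_comp_inv, Category.assoc]
    exact hk'

theorem isBlowUp_of_cover {ι : Type*} (U : ι → X.Opens) (hU : (⨆ i, U i) = ⊤)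
    (heff : BlowUp.IsEffCartierIdeal (I.comap b))
    (h : ∀ i, BlowUp.IsBlowUp (b ∣_ U i) (I.comap (U i).ι)) : BlowUp.IsBlowUp b I := by
  have hB : BlowUp.IsBlowUp (blowUpMap I) I := isBlowUp_blowUpMap
  obtain ⟨k, hk, -⟩ := hB.2 X' b heff
  subst hk
  haveI : IsIso k := by
    rw [← MorphismProperty.isomorphisms.iff]
    refine (IsZariskiLocalAtTarget.iff_of_iSup_eq_top (P := MorphismProperty.isomorphisms Scheme.{u})
      (fun i => blowUpMap I ⁻¹ᵁ U i) ?_).2 fun i => ?_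
    · rw [← Scheme.Hom.preimage_iSup, hU, Scheme.Hom.preimage_top]
    rw [MorphismProperty.isomorphisms.iff]
    have e : (k ≫ blowUpMap I) ∣_ U i = k ∣_ (blowUpMap I ⁻¹ᵁ U i) ≫ blowUpMap I ∣_ U i :=
      morphismRestrict_comp _ _ _
    obtain ⟨g, hg, -⟩ := hB.2 _ (blowUpMap I) hB.1
    have h1 := h i
    have h2 := isBlowUp_restrict hB (U i)
    obtain ⟨ε, hε⟩ := exists_iso_of_isBlowUp h1 h2
    have : k ∣_ (blowUpMap I ⁻¹ᵁ U i) = ε.hom := (h2.2 _ _ h1.1).unique e.symm hε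
    rw [this]
    exact inferInstanceAs (IsIso ε.hom)
  exact isBlowUp_iso_comp k hB

end Groth.Agent.BlowUpLib
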