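import Groth.Agent.BlowUpLib.BiratCoords
import Groth.Agent.BlowUpLib.Proper
import Groth.Agent.BlowUpLib.LocalTarget

/-!
# Projective birational morphisms are blow-ups

`exists_isBlowUp_of_birational`: for `Z`, `X` integral, `X` with an ample module, a morphism `Z ⟶ X` through a closed
immersion into projective space over `X` which is birational is a blowing up of `X` in some ideal sheaf.
-/

set_option autoImplicit false
set_option linter.unusedSectionVars false
set_option backward.isDefEq.respectTransparency.types false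
set_option maxHeartbeats 1600000

universe u

open AlgebraicGeometry CategoryTheory CategoryTheory.Limits TopologicalSpace Opposite
open Groth.Agent.PnEmb
open Groth.Agent.ModPairLib (ideal_restrict)

namespace Groth.Agent.BlowUpLib.Birat

theorem isIso_of_bijective_appTop {A B : Scheme.{u}} [IsAffine A] [IsAffine B] (q : A ⟶ B)
    (h : Function.Bijective q.appTop.hom) : IsIso q := by
  haveI : IsIso q.appTop := (ConcreteCategory.isIso_iff_bijective _).2 h
  have e := Scheme.isoSpec_hom_naturality q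
  have : q = A.isoSpec.hom ≫ Spec.map q.appTop ≫ B.isoSpec.inv := by
    rw [← Category.assoc, e, Category.assoc, Iso.hom_inv_id, Category.comp_id]
  rw [this]
  infer_instance

variable {X : Scheme.{u}} {N : ℕ}

/-- The chart of projective space over an open. -/
noncomputable abbrev chartOver (U : X.Opens) (k : Fin (N + 1)) : (CohB1.ProjSpaceOver N X).Opens :=
  pullback.fst (CohB1.ProjSpace.toSpec N (ULift.{u} ℤ)) (specULiftZIsTerminal.from X) ⁻¹ᵁ chartOpen N (ULift.{u} ℤ) k ⊓
    pullback.snd (CohB1.ProjSpace.toSpec N (ULift.{u} ℤ)) (specULiftZIsTerminal.from X) ⁻¹ᵁ U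

theorem isAffineOpen_chartOver {U : X.Opens} (hU : IsAffineOpen U) (k : Fin (N + 1)) :
    IsAffineOpen (chartOver U k) := by
  haveI : IsAffine _ := hU
  haveI : IsAffine _ := isAffineOpen_chartOpen (R := ULift.{u} ℤ) (n := N) k
  haveI : IsAffine ((⊤ : (Spec (CommRingCat.of (ULift.{u} ℤ))).Opens).toScheme) := isAffineOpen_top _
  exact .of_isIso (Scheme.Hom.isPullback_resLE (IsPullback.of_hasPullback _ _) (US := ⊤) le_top le_top
    (UX := chartOpen N (ULift.{u} ℤ) k) (UT := U) (show chartOver U k = _ from rfl)).isoPullback.hom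

theorem chartOver_generated {U : X.Opens} (hU : IsAffineOpen U) (k : Fin (N + 1))
    (H : Subring Γ(CohB1.ProjSpaceOver N X, chartOver U k))
    (hsnd : ∀ a, (pullback.snd (CohB1.ProjSpace.toSpec N (ULift.{u} ℤ)) (specULiftZIsTerminal.from X)).appLE
      U (chartOver U k) inf_le_right a ∈ H)
    (hfst : ∀ j, (pullback.fst (CohB1.ProjSpace.toSpec N (ULift.{u} ℤ)) (specULiftZIsTerminal.from X)).appLE
      (chartOpen N (ULift.{u} ℤ) k) (chartOver U k) inf_le_left (quot k j) ∈ H) : H = ⊤ := by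
  have hcl := closure_range_union_eq_top
    ((isIso_pushoutSection_iff _ _ _ (show chartOver U k = _ from rfl)).1
      (isIso_pushoutSection_of_isAffineOpen (IsPullback.of_hasPullback
        (CohB1.ProjSpace.toSpec N (ULift.{u} ℤ)) (specULiftZIsTerminal.from X)) (US := ⊤) le_top le_top
        rfl (isAffineOpen_top _) hU (isAffineOpen_chartOpen k)))
  refine top_le_iff.1 (le_trans hcl.ge (Subring.closure_le.2 ?_))
  rintro c (⟨d, rfl⟩ | ⟨d, rfl⟩)
  · exact (subring_quot_eq_top N k (Subring.comap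
      ((pullback.fst (CohB1.ProjSpace.toSpec N (ULift.{u} ℤ)) (specULiftZIsTerminal.from X)).appLE
        (chartOpen N (ULift.{u} ℤ) k) (chartOver U k) inf_le_left).hom H) hfst).ge (Subring.mem_top d)
  · exact hsnd d

variable {Z : Scheme.{u}} (i : Z ⟶ CohB1.ProjSpaceOver N X)

/-- The map to projective space over the integers. -/
noncomputable abbrev toPZ : Z ⟶ PZ.{u} N :=
  i ≫ pullback.fst (CohB1.ProjSpace.toSpec N (ULift.{u} ℤ)) (specULiftZIsTerminal.from X)

/-- The map to the base. -/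
noncomputable abbrev toX : Z ⟶ X :=
  i ≫ pullback.snd (CohB1.ProjSpace.toSpec N (ULift.{u} ℤ)) (specULiftZIsTerminal.from X)

/-- The affine pieces of `Z`. -/
noncomputable abbrev Q (U : X.Opens) (k : Fin (N + 1)) : Z.Opens := i ⁻¹ᵁ chartOver U k

theorem Q_le_X (U : X.Opens) (k : Fin (N + 1)) : Q i U k ≤ toX i ⁻¹ᵁ U := fun _ h => h.2

theorem Q_le_P [AlgebraicGeometry.IsIntegral Z] (U : X.Opens) (k : Fin (N + 1)) : Q i U k ≤ P (toPZ i) k :=
  fun _ h => h.1

theorem mem_Q [AlgebraicGeometry.IsIntegral Z] {U : X.Opens} {k : Fin (N + 1)} {z : Z} (h1 : z ∈ P (toPZ i) k)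
    (h2 : z ∈ toX i ⁻¹ᵁ U) : z ∈ Q i U k := ⟨h1, h2⟩

variable [IsClosedImmersion i] [AlgebraicGeometry.IsIntegral Z]

theorem Q_generated {U : X.Opens} (hU : IsAffineOpen U) (k : Fin (N + 1)) (H : Subring Γ(Z, Q i U k))
    (hsnd : ∀ a, ((toX i).appLE U (Q i U k) (Q_le_X i U k)).hom a ∈ H)
    (hfst : ∀ j, PicLib.res (Q_le_P i U k) (q (toPZ i) k j) ∈ H) : H = ⊤ := by
  refine eq_top_iff.2 fun x _ => ?_
  obtain ⟨y, rfl⟩ := i.app_surjective _ (isAffineOpen_chartOver hU k) x
  refine Subring.mem_comap.1 ((chartOver_generated hU k (H.comap (i.app (chartOver U k)).hom)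
    (fun a => ?_) (fun j => ?_)).ge (Subring.mem_top y))
  · refine Subring.mem_comap.2 ?_
    erw [Scheme.Hom.app_eq_appLE, ← CommRingCat.comp_apply, Scheme.Hom.appLE_comp_appLE]
    exact hsnd a
  · refine Subring.mem_comap.2 ?_
    erw [Scheme.Hom.app_eq_appLE, ← CommRingCat.comp_apply, Scheme.Hom.appLE_comp_appLE]
    exact hfst j

variable [AlgebraicGeometry.IsIntegral X]

theorem exists_isBlowUp_of_birational {M : X.Modules} (hM : CohB1.IsAmple M)
    (hgen : toX i (genericPoint Z) = genericPoint X)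
    (hsurj : Function.Surjective ((toX i).stalkMap (genericPoint Z)).hom) :
    ∃ I : X.IdealSheafData, BlowUp.IsBlowUp (toX i) I := by
  set f := toX i
  set g := toPZ i
  obtain ⟨k₀, hk₀⟩ := exists_mem_P g (genericPoint Z)
  obtain ⟨I, hdata⟩ := exists_ideal f hgen hsurj hM (fun j => kap g k₀ j hk₀)
    ⟨k₀, by rw [kap_self]; exact one_ne_zero⟩
  refine ⟨I, ?_⟩
  choose U hxU hc using hdata
  -- the ideal pulled back to the affine pieces of `Z`
  have hpiece : ∀ (x : X) (k : Fin (N + 1)) (hQ : genericPoint Z ∈ Q i (U x).1 k)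
      (c : Fin (N + 1) → Γ(X, (U x).1)) (φ : Z.functionField), φ ≠ 0 →
      I.ideal (U x) = Ideal.span (Set.range c) →
      (∀ j, rho f (U x).1 hQ.2 (c j) = kap g k₀ j hk₀ * φ) →
      (∀ j, (f.appLE (U x).1 (Q i (U x).1 k) (Q_le_X i _ k)).hom (c j) =
        PicLib.res (Q_le_P i _ k) (q g k j) * (f.appLE (U x).1 (Q i (U x).1 k) (Q_le_X i _ k)).hom (c k)) ∧
      Generates I f (U x) (c k) ⟨_, (isAffineOpen_chartOver (U x).2 k).preimage i⟩ ∧
      (f.appLE (U x).1 (Q i (U x).1 k) (Q_le_X i _ k)).hom (c k) ≠ 0 := by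
    intro x k hQ c φ hφ hI hcφ
    have hk : genericPoint Z ∈ P g k := hQ.1
    have hrel : ∀ j, (f.appLE (U x).1 (Q i (U x).1 k) (Q_le_X i _ k)).hom (c j) =
        PicLib.res (Q_le_P i _ k) (q g k j) * (f.appLE (U x).1 (Q i (U x).1 k) (Q_le_X i _ k)).hom (c k) := by
      intro j
      refine gη_injective _ hQ ?_
      rw [map_mul, gη_appLE, gη_appLE, gη_res]
      show _ = kap g k j hk * _
      rw [hcφ, hcφ, ← mul_assoc, kap_mul g k k₀ j hk hk₀]
    refine ⟨hrel, ⟨Q_le_X i _ k, ?_⟩, fun h0 => ?_⟩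
    · rw [ProjLib.comap_ideal_eq I f (U x) ⟨_, _⟩ (Q_le_X i _ k), hI, Ideal.map_span]
      refine le_antisymm (Ideal.span_le.2 ?_) ?_
      · rintro _ ⟨_, ⟨j, rfl⟩, rfl⟩
        exact Ideal.mem_span_singleton'.2 ⟨_, (hrel j).symm⟩
      · rw [Ideal.span_singleton_le_iff_mem]
        exact Ideal.subset_span ⟨c k, ⟨k, rfl⟩, rfl⟩
    · have := congrArg (gη _ hQ) h0
      rw [gη_appLE, hcφ, map_zero] at this
      exact mul_ne_zero ((kap_ne_zero_iff g k₀ k hk₀).2 hk) hφ this
  have hcart : BlowUp.IsEffCartierIdeal (I.comap f) := by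
    intro z
    obtain ⟨k, hzk⟩ := exists_mem_P g z
    have hz : z ∈ Q i (U (f z)).1 k := mem_Q i hzk (hxU (f z))
    have hQ := eta_mem hz
    obtain ⟨c, φ, hφ, hI, hcφ⟩ := hc (f z) hQ.2
    obtain ⟨-, ⟨_, hid⟩, hne⟩ := hpiece (f z) k hQ c φ hφ hI hcφ
    haveI : Nonempty (Q i (U (f z)).1 k) := ⟨⟨_, hQ⟩⟩
    exact ⟨_, hz, _, mem_nonZeroDivisors_of_ne_zero hne, hid⟩
  -- compare with the blow-up
  have hB : BlowUp.IsBlowUp (blowUpMap I) I := isBlowUp_blowUpMap
  obtain ⟨κ, hκ, -⟩ := hB.2 Z f hcart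
  rw [show f = κ ≫ blowUpMap I from hκ.symm]
  suffices IsIso κ from isBlowUp_iso_comp κ hB
  rw [← MorphismProperty.isomorphisms.iff]
  let J := {p : Σ _ : X, Idx I // p.2.1 = U p.1 ∧ ∃ (_ : genericPoint Z ∈ f ⁻¹ᵁ p.2.1.1),
    IsIso (κ ∣_ (chartι p.2).opensRange)}
  refine (IsZariskiLocalAtTarget.iff_of_iSup_eq_top (P := MorphismProperty.isomorphisms Scheme.{u})
    (fun p : J => (chartι p.1.2).opensRange) (top_le_iff.1 fun b _ => ?_)).2 fun p => ?_
  swap
  · rw [MorphismProperty.isomorphisms.iff]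
    exact p.2.2.2
  let x := blowUpMap I b
  have hU : genericPoint Z ∈ f ⁻¹ᵁ (U x).1 := eta_mem_preimage f hgen (hxU x)
  obtain ⟨c, φ, hφ, hI, hcφ⟩ := hc x hU
  classical
  let s : Finset Γ(X, (U x).1) := Finset.univ.image c
  have hs : Ideal.span (s : Set Γ(X, (U x).1)) = I.ideal (U x) := by
    rw [hI, Finset.coe_image, Finset.coe_univ, Set.image_univ]
  have hb : b ∈ blowUpMap I ⁻¹ᵁ (U x).1 := hxU x
  rw [preimage_eq_iSup (U x) s hs] at hb
  obtain ⟨⟨a, ha⟩, hba⟩ := Opens.mem_iSup.1 hb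
  obtain ⟨k, -, rfl⟩ := Finset.mem_image.1 ha
  let ι₀ : Idx I := ⟨U x, c k, hs ▸ Ideal.subset_span ha⟩
  refine Opens.mem_iSup.2 ⟨⟨⟨x, ι₀⟩, rfl, hU, ?_⟩, hba⟩
  show IsIso (κ ∣_ (chartι ι₀).opensRange)
  have hck : c k ∈ I.ideal (U x) := ι₀.2.2
  -- `c k` is nonzero, as its chart is nonempty
  have hck0 : rho f (U x).1 hU (c k) ≠ 0 := by
    intro h0
    have h00 : c k = 0 := (injective_iff_map_eq_zero _).1 (rho_injective f hgen _ hU) _ h0
    obtain ⟨y, -⟩ := hba
    haveI : Subsingleton (Localization.Away (c k)) :=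
      IsLocalization.subsingleton (M := Submonoid.powers (c k)) ⟨1, show c k ^ 1 = 0 by rw [pow_one, h00]⟩
    haveI : Subsingleton (ChartRing I (U x) (c k)) := Subtype.val_injective.subsingleton
    exact (inferInstance : IsEmpty (PrimeSpectrum (ChartRing I (U x) (c k)))).false y
  have hk : genericPoint Z ∈ P g k := (kap_ne_zero_iff g k₀ k hk₀).1 fun h => hck0 (by rw [hcφ, h, zero_mul])
  have hQη : genericPoint Z ∈ Q i (U x).1 k := mem_Q i hk hU
  have hQa : IsAffineOpen (Q i (U x).1 k) := (isAffineOpen_chartOver (U x).2 k).preimage i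
  let φQ := (f.appLE (U x).1 (Q i (U x).1 k) (Q_le_X i _ k)).hom
  obtain ⟨hrel, hQgen, hck'⟩ := hpiece x k hQη c φ hφ hI hcφ
  -- the preimage of the chart
  have hpre : κ ⁻¹ᵁ (chartι ι₀).opensRange = Q i (U x).1 k := by
    refine le_antisymm (fun z hz => ?_) (fun z hz => ?_)
    · have hloc : z ∈ locus I f (U x) (c k) := by
        obtain ⟨y, hy⟩ := hz
        have h1 : y ∈ chartι ι₀ ⁻¹ᵁ locus I (blowUpMap I) (U x) (c k) := by
          rw [preimage_locus hck (blowUpMap I) good_blowUpMap (chartι ι₀)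
            (by rw [ι_blowUpMap]; exact good_cm ι₀), ι_blowUpMap]
          show y ∈ locus I (chartMap I (U x) (c k)) (U x) (c k)
          rw [locus_chartMap hck]
          exact trivial
        have h2 : z ∈ κ ⁻¹ᵁ locus I (blowUpMap I) (U x) (c k) := by
          show κ z ∈ locus I (blowUpMap I) (U x) (c k)
          rw [← hy]
          exact h1
        rw [preimage_locus hck (blowUpMap I) good_blowUpMap κ (by rw [hκ]; exact hcart), hκ] at h2
        exact h2
      refine mem_Q i ?_ (locus_le f _ _ hloc)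
      obtain ⟨V, hzV, hV⟩ := mem_locus.1 hloc
      obtain ⟨m, hzm⟩ := exists_mem_P g z
      obtain ⟨_, ⟨W, hWa, rfl⟩, hzW, hWle⟩ := Z.isBasis_affineOpens.exists_subset_of_mem_open
        (show z ∈ V.1 ⊓ P g m from ⟨hzV, hzm⟩) (V.1 ⊓ P g m).isOpen
      obtain ⟨eW, hW⟩ := hV.mono (V' := ⟨W, hWa⟩) fun w hw => (hWle hw).1
      have hWm : W ≤ P g m := fun w hw => (hWle hw).2
      have hηW : genericPoint Z ∈ W := eta_mem hzW
      have hm : genericPoint Z ∈ P g m := hWm hηW
      obtain ⟨d, hd⟩ := Ideal.mem_span_singleton'.1 (hW.le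
        ((ProjLib.map_ideal_le_comap_ideal I f (U x) ⟨W, hWa⟩ eW)
          (Ideal.mem_map_of_mem _ (hI.ge (Ideal.subset_span ⟨m, rfl⟩)))))
      have hunit : IsUnit (PicLib.res hWm (q g m k)) := by
        refine IsUnit.of_mul_eq_one d (gη_injective W hηW ?_)
        have h := congrArg (gη W hηW) hd
        rw [map_mul, gη_appLE, gη_appLE, hcφ, hcφ, ← mul_assoc] at h
        have h' := mul_right_cancel₀ hφ h
        have hm0 : kap g k₀ m hk₀ ≠ 0 := (kap_ne_zero_iff g k₀ m hk₀).2 hm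
        rw [map_mul, map_one, gη_res]
        show kap g m k hm * _ = 1
        refine mul_right_cancel₀ hm0 ?_
        rw [mul_right_comm, kap_mul g m k₀ k hm hk₀, one_mul, mul_comm]
        exact h'
      exact basicOpen_q_le g m k (le_basicOpen_of_isUnit hWm _ hunit hzW)
    · have hle := preimage_opensRange_ι κ ι₀ (by rw [hκ]; exact hcart)
      rw [hκ] at hle
      exact hle (mem_locus.2 ⟨⟨_, hQa⟩, hz, hQgen⟩)
  -- the restricted morphism
  let Qs := (Q i (U x).1 k).toScheme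
  let p : Qs ⟶ C I ι₀ := IsOpenImmersion.lift (chartι ι₀) ((Q i (U x).1 k).ι ≫ κ) (by
    rintro _ ⟨z, rfl⟩
    exact hpre.ge z.2)
  have hp : p ≫ chartι ι₀ = (Q i (U x).1 k).ι ≫ κ := IsOpenImmersion.lift_fac _ _ _
  have hpc : p ≫ chartMap I (U x) (c k) = (Q i (U x).1 k).ι ≫ f := by
    show p ≫ cm I ι₀ = _
    rw [← ι_blowUpMap, reassoc_of% hp, hκ]
  let θ : ChartRing I (U x) (c k) →+* Γ(Z, Q i (U x).1 k) :=
    ((Scheme.ΓSpecIso (CommRingCat.of (ChartRing I (U x) (c k)))).inv ≫ p.appTop ≫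
      (Q i (U x).1 k).topIso.hom).hom
  have hθ : ∀ a, θ (algebraMap Γ(X, (U x).1) _ a) = φQ a := by
    intro a
    have e : (⊤ : Qs.Opens) ≤ ((Q i (U x).1 k).ι ≫ f) ⁻¹ᵁ (U x).1 := fun z _ => Q_le_X i _ k z.2
    have e' : (⊤ : Qs.Opens) ≤ ((p ≫ Spec.map (CommRingCat.ofHom (algebraMap Γ(X, (U x).1)
        (ChartRing I (U x) (c k))))) ≫ (U x).2.fromSpec) ⁻¹ᵁ (U x).1 := by
      rw [Category.assoc]
      exact hpc ▸ e
    have h1 := fromSpec_comp_appLE _ e'
    have h2 : ((Q i (U x).1 k).ι ≫ f).appLE (U x).1 ⊤ e =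
        ((p ≫ Spec.map (CommRingCat.ofHom (algebraMap Γ(X, (U x).1)
          (ChartRing I (U x) (c k))))) ≫ (U x).2.fromSpec).appLE (U x).1 ⊤ e' := by
      congr 1
      rw [Category.assoc]
      exact hpc.symm
    have h4 : ((Q i (U x).1 k).ι ≫ f).appLE (U x).1 ⊤ e ≫ (Q i (U x).1 k).topIso.hom =
        f.appLE (U x).1 (Q i (U x).1 k) (Q_le_X i _ k) := by
      simp only [Scheme.Hom.appLE, Scheme.Hom.comp_app, Scheme.Opens.ι_app, Scheme.Opens.topIso_hom, Category.assoc]
      refine (Category.assoc _ _ _).trans (congrArg (f.app (U x).1 ≫ ·) ?_)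
      refine ((congrArg (Z.presheaf.map _ ≫ ·) (Z.presheaf.map_comp _ _).symm).trans (Z.presheaf.map_comp _ _).symm).trans ?_
      exact congrArg Z.presheaf.map (Subsingleton.elim _ _)
    show θ _ = (f.appLE (U x).1 _ (Q_le_X i _ k)).hom a
    rw [← h4, h2, h1]
    simp only [θ, CommRingCat.hom_comp, RingHom.comp_apply, Scheme.Hom.comp_appTop]
    erw [ConcreteCategory.congr_hom (Scheme.ΓSpecIso_inv_naturality
      (CommRingCat.ofHom (algebraMap Γ(X, (U x).1) (ChartRing I (U x) (c k))))).symm a]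
    rfl
  have hnzd : algebraMap Γ(X, (U x).1) (ChartRing I (U x) (c k)) (c k) ∈ nonZeroDivisors _ :=
    algebraMap_self_mem_nonZeroDivisors
  haveI : Nonempty (Q i (U x).1 k) := ⟨⟨_, hQη⟩⟩
  have hinj : Function.Injective θ := by
    rw [injective_iff_map_eq_zero]
    intro z hz
    obtain ⟨⟨a, ⟨_, n, rfl⟩⟩, hzn⟩ := IsLocalization.surj (M := Submonoid.powers (c k))
      (z : Localization.Away (c k))
    have hzn' : z * algebraMap Γ(X, (U x).1) (ChartRing I (U x) (c k)) (c k) ^ n =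
        algebraMap Γ(X, (U x).1) _ a := by
      refine Subtype.ext ?_
      simpa using hzn
    have h := congrArg θ hzn'
    rw [map_mul, hz, zero_mul, hθ] at h
    have ha0 : a = 0 := by
      refine (injective_iff_map_eq_zero _).1 (rho_injective f hgen _ hU) _ ?_
      rw [← gη_appLE f (Q_le_X i _ k) hQη]
      exact (congrArg _ h.symm).trans (map_zero _)
    rw [ha0, map_zero] at hzn'
    exact mem_nonZeroDivisors_iff_right.1 (pow_mem hnzd n) z hzn'
  have hsur : Function.Surjective θ := by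
    rw [← RingHom.range_eq_top]
    refine Q_generated i (U x).2 k _ (fun a => ⟨_, hθ a⟩) fun j => ?_
    refine ⟨frac (c j) (hI.ge (Ideal.subset_span ⟨j, rfl⟩)), ?_⟩
    refine mul_right_cancel₀ hck' ?_
    rw [← hrel, ← hθ, ← hθ, ← map_mul, frac_mul]
  haveI : IsAffine Qs := hQa
  haveI : IsIso p := by
    haveI : IsIso ((Scheme.ΓSpecIso (CommRingCat.of (ChartRing I (U x) (c k)))).inv ≫ p.appTop ≫
        (Q i (U x).1 k).topIso.hom) := (ConcreteCategory.isIso_iff_bijective _).2 ⟨hinj, hsur⟩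
    haveI h2 : IsIso (p.appTop ≫ (Q i (U x).1 k).topIso.hom) :=
      IsIso.of_isIso_comp_left (Scheme.ΓSpecIso (CommRingCat.of (ChartRing I (U x) (c k)))).inv _
    haveI : IsIso p.appTop := IsIso.of_isIso_comp_right _ (Q i (U x).1 k).topIso.hom
    exact isIso_of_bijective_appTop p (ConcreteCategory.bijective_of_isIso p.appTop)
  have : κ ∣_ (chartι ι₀).opensRange =
      (Scheme.isoOfEq Z hpre).hom ≫ p ≫ (chartι ι₀).isoOpensRange.hom := by
    rw [← cancel_mono (chartι ι₀).opensRange.ι, morphismRestrict_ι, Category.assoc, Category.assoc,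
      Scheme.Hom.isoOpensRange_hom_ι, hp, Scheme.isoOfEq_hom_ι_assoc]
  rw [this]
  infer_instance

end Groth.Agent.BlowUpLib.Birat

namespace Groth.Agent.BlowUpLib.Birat

variable {Z X : Scheme.{u}} [AlgebraicGeometry.IsIntegral Z] [AlgebraicGeometry.IsIntegral X]

/-- A morphism which is an isomorphism over a nonempty open identifies generic points and function fields. -/
theorem generic_data_of_isIso_restrict (f : Z ⟶ X) {U : X.Opens} (hU : (U : Set X).Nonempty) [IsIso (f ∣_ U)] :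
    f (genericPoint Z) = genericPoint X ∧ Function.Surjective (f.stalkMap (genericPoint Z)).hom := by
  have hX : genericPoint X ∈ U := eta_mem hU.some_mem
  obtain ⟨z, hz⟩ := (f ∣_ U).surjective ⟨_, hX⟩
  have hzX : f z.1 = genericPoint X := by
    rw [← morphismRestrict_base_coe f U z, hz]
  have hmem : genericPoint Z ∈ f ⁻¹ᵁ U := eta_mem z.2
  refine ⟨Specializes.antisymm ?_ (genericPoint_specializes _) |>.eq, ?_⟩
  · rw [← hzX]
    exact (genericPoint_specializes z.1).map f.continuous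
  · have := (MorphismProperty.arrow_mk_iso_iff (MorphismProperty.isomorphisms CommRingCat.{u})
      (morphismRestrictStalkMap f U ⟨genericPoint Z, hmem⟩)).1 (inferInstanceAs (IsIso ((f ∣_ U).stalkMap _)))
    rw [MorphismProperty.isomorphisms.iff] at this
    exact (ConcreteCategory.bijective_of_isIso (f.stalkMap (genericPoint Z))).2

end Groth.Agent.BlowUpLib.Birat
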