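import Groth.Agent.BlowUpLib.Chart

/-!
# Separating closures by a blow-up
-/

set_option autoImplicit false
set_option backward.isDefEq.respectTransparency.types false

universe u

open CategoryTheory Limits AlgebraicGeometry TopologicalSpace

namespace Groth.Agent.BlowUpLib

section

variable {X Y : Scheme.{u}}

/-- The sections vanishing at a point. -/
noncomputable def prm {U : X.Opens} (x : X) (hx : x ∈ U) : Ideal Γ(X, U) :=
  (IsLocalRing.maximalIdeal (X.presheaf.stalk x)).comap (X.presheaf.germ U x hx).hom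

instance {U : X.Opens} (x : X) (hx : x ∈ U) : (prm (U := U) x hx).IsPrime :=
  Ideal.IsPrime.comap _

theorem mem_prm {U : X.Opens} {x : X} (hx : x ∈ U) {s : Γ(X, U)} :
    s ∈ prm x hx ↔ x ∉ X.basicOpen s := by
  rw [Scheme.mem_basicOpen X s x hx, prm, Ideal.mem_comap, IsLocalRing.mem_maximalIdeal]
  rfl

theorem appLE_mem_prm (g : Y ⟶ X) {U : X.Opens} {V : Y.Opens} (e : V ≤ g ⁻¹ᵁ U) {y : Y} (hy : y ∈ V)
    {s : Γ(X, U)} : (g.appLE U V e).hom s ∈ prm y hy ↔ s ∈ prm (g y) (e hy) := by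
  rw [mem_prm, mem_prm, Scheme.basicOpen_appLE]
  exact not_congr ⟨fun h => h.2, fun h => ⟨hy, h⟩⟩

theorem mem_support_iff_le_prm (I : X.IdealSheafData) (U : X.affineOpens) {x : X} (hx : x ∈ U.1) :
    x ∈ (I.support : Set X) ↔ I.ideal U ≤ prm x hx := by
  have h1 : x ∈ (I.support : Set X) ↔ x ∈ X.zeroLocus (U := U.1) (I.ideal U : Set Γ(X, U.1)) :=
    ⟨fun h => ((I.coe_support_inter U).le ⟨h, hx⟩).1, fun h => ((I.coe_support_inter U).ge ⟨h, hx⟩).1⟩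
  rw [h1, Scheme.mem_zeroLocus_iff]
  exact ⟨fun h s hs => (mem_prm hx).2 (h s hs), fun h s hs => (mem_prm hx).1 (h hs)⟩

end

theorem disjoint_closure_blowUp
    {X Y Z X' : Scheme.{u}} (p : Z ⟶ X) (U V : X.Opens)
    (f : Y ⟶ Z) (hY : Set.range (fun y => p (f y)) ⊆ (U : Set X))
    (𝓘₁ 𝓘₂ : X.IdealSheafData)
    (h₁ : (V : Set X) \ (U : Set X) ⊆ (𝓘₁.support : Set X))
    (h₁' : Disjoint (𝓘₁.support : Set X) (U : Set X))
    (h₂ : (𝓘₂.support : Set X) ⊆ (𝓘₁.support : Set X) \ (V : Set X))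
    (hincl : 𝓘₂.comap p ≤ (𝓘₁ * 𝓘₁).comap p ⊔ f.ker)
    (q : X' ⟶ X) (hq : BlowUp.IsEffCartierIdeal ((𝓘₁ ⊔ 𝓘₂).comap q)) :
    Disjoint (closure (Set.range (fun y => (pullback.snd f (pullback.fst p q)) y)))
      ((fun z => (pullback.snd p q) z) ⁻¹'
        closure ((fun x' => q x') ⁻¹' ((V : Set X) \ (U : Set X)))) := by
  rw [Set.disjoint_left]
  intro z hz (hT : pullback.snd p q z ∈ closure _)
  set π₁ := pullback.fst p q with hπ₁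
  set π₂ := pullback.snd p q with hπ₂
  have hcomm : π₁ ≫ p = π₂ ≫ q := pullback.condition
  obtain ⟨_, ⟨W₀, hW₀, rfl⟩, hxW, -⟩ := X.isBasis_affineOpens.exists_subset_of_mem_open
    (show q (π₂ z) ∈ (⊤ : X.Opens) from trivial) (⊤ : X.Opens).isOpen
  let W : X.affineOpens := ⟨W₀, hW₀⟩
  obtain ⟨a, has, haloc⟩ := exists_mem_locus q hq W (show π₂ z ∈ q ⁻¹ᵁ W.1 from hxW)
    ((𝓘₁.ideal W : Set Γ(X, W.1)) ∪ (𝓘₂.ideal W : Set Γ(X, W.1)))
    (by rw [Ideal.span_union, Ideal.span_eq, Ideal.span_eq, Scheme.IdealSheafData.ideal_sup]; rfl)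
  obtain ⟨W', hxW', eW, hgen⟩ := mem_locus.1 haloc
  let φ := (q.appLE W.1 W'.1 eW).hom
  have hspan : ∀ s ∈ (𝓘₁ ⊔ 𝓘₂).ideal W, ∃ c, c * φ a = φ s := fun s hs =>
    Ideal.mem_span_singleton'.1
      (hgen.le (ProjLib.map_ideal_le_comap_ideal _ q W W' eW (Ideal.mem_map_of_mem _ hs)))
  have hle₁ : 𝓘₁.ideal W ≤ (𝓘₁ ⊔ 𝓘₂).ideal W := (le_sup_left : 𝓘₁ ≤ 𝓘₁ ⊔ 𝓘₂) W
  have hle₂ : 𝓘₂.ideal W ≤ (𝓘₁ ⊔ 𝓘₂).ideal W := (le_sup_right : 𝓘₂ ≤ 𝓘₁ ⊔ 𝓘₂) W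
  -- `φ a` is invertible over the points of `V ∖ U`
  have hunit : ∀ x'' (hx'' : x'' ∈ W'.1), q x'' ∈ (V : Set X) \ (U : Set X) → φ a ∉ prm x'' hx'' := by
    intro x'' hx'' hVU ha
    refine (h₂ ((mem_support_iff_le_prm 𝓘₂ W (eW hx'')).2 fun b hb => ?_)).2 hVU.1
    obtain ⟨c, hc⟩ := hspan b (hle₂ hb)
    rw [← appLE_mem_prm q eW hx'']
    exact hc ▸ Ideal.mul_mem_left _ c ha
  rcases has with ha | ha
  · -- `a ∈ 𝓘₁`: the preimage of `V ∖ U` misses `W'`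
    obtain ⟨x'', hx'', hVU⟩ := mem_closure_iff.1 hT W'.1 W'.1.isOpen hxW'
    exact hunit x'' hx'' hVU ((appLE_mem_prm q eW hx'').2
      ((mem_support_iff_le_prm 𝓘₁ W (eW hx'')).1 (h₁ hVU) ha))
  -- `a ∈ 𝓘₂`
  choose c hc using hspan
  have hcz : ∀ b (hb : b ∈ 𝓘₁.ideal W), c b (hle₁ hb) ∈ prm (π₂ z) hxW' := by
    intro b hb
    rw [mem_prm]
    intro hmem
    obtain ⟨x'', hx''b, hVU⟩ := mem_closure_iff.1 hT _ (X'.basicOpen (c b (hle₁ hb))).isOpen hmem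
    have hx'' : x'' ∈ W'.1 := X'.basicOpen_le _ hx''b
    have hb' : φ b ∈ prm x'' hx'' :=
      (appLE_mem_prm q eW hx'').2 ((mem_support_iff_le_prm 𝓘₁ W (eW hx'')).1 (h₁ hVU) hb)
    rw [← hc b (hle₁ hb)] at hb'
    rcases (inferInstance : (prm x'' hx'').IsPrime).mem_or_mem hb' with h | h
    · exact (mem_prm hx'').1 h hx''b
    · exact hunit x'' hx'' hVU h
  -- affines of `Z` and of the fibre product
  have hzW : p (π₁ z) ∈ W.1 := by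
    rw [← Scheme.Hom.comp_apply, hcomm, Scheme.Hom.comp_apply]
    exact hxW
  obtain ⟨_, ⟨P₀, hP₀, rfl⟩, hzP, hPW⟩ := Z.isBasis_affineOpens.exists_subset_of_mem_open
    (show π₁ z ∈ p ⁻¹ᵁ W.1 from hzW) (p ⁻¹ᵁ W.1).isOpen
  let P : Z.affineOpens := ⟨P₀, hP₀⟩
  have eP : P.1 ≤ p ⁻¹ᵁ W.1 := hPW
  obtain ⟨_, ⟨P₁, hP₁, rfl⟩, hzP', hle⟩ := (pullback p q).isBasis_affineOpens.exists_subset_of_mem_open
    (show z ∈ π₁ ⁻¹ᵁ P.1 ⊓ π₂ ⁻¹ᵁ W'.1 from ⟨hzP, hxW'⟩) (π₁ ⁻¹ᵁ P.1 ⊓ π₂ ⁻¹ᵁ W'.1).isOpen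
  let P' : (pullback p q).affineOpens := ⟨P₁, hP₁⟩
  have e₁ : P'.1 ≤ π₁ ⁻¹ᵁ P.1 := fun w hw => (hle hw).1
  have e₂ : P'.1 ≤ π₂ ⁻¹ᵁ W'.1 := fun w hw => (hle hw).2
  let α := (π₁.appLE P.1 P'.1 e₁).hom
  let β := (π₂.appLE W'.1 P'.1 e₂).hom
  let ψ := (p.appLE W.1 P.1 eP).hom
  have hαβ : ∀ s, α (ψ s) = β (φ s) := by
    intro s
    show (p.appLE W.1 P.1 eP ≫ π₁.appLE P.1 P'.1 e₁).hom s =
      (q.appLE W.1 W'.1 eW ≫ π₂.appLE W'.1 P'.1 e₂).hom s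
    rw [Scheme.Hom.appLE_comp_appLE, Scheme.Hom.appLE_comp_appLE]
    simp only [hcomm]
  let ε := β (φ a)
  let Q : Ideal Γ(pullback p q, P'.1) := (prm z hzP')
  have hsq : ((𝓘₁ * 𝓘₁).comap p).ideal P ≤ (Ideal.span {ε * ε} * Q).comap α := by
    rw [ProjLib.comap_ideal_eq _ p W P eP, Scheme.IdealSheafData.ideal_mul, Ideal.map_le_iff_le_comap,
      Ideal.comap_comap]
    show 𝓘₁.ideal W * 𝓘₁.ideal W ≤ _
    rw [Ideal.mul_le]
    intro b hb b' hb'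
    show α (ψ (b * b')) ∈ Ideal.span {ε * ε} * Q
    refine Ideal.mem_span_singleton_mul.2 ⟨β (c b (hle₁ hb) * c b' (hle₁ hb')), ?_, ?_⟩
    · exact (appLE_mem_prm π₂ e₂ hzP').2 (Ideal.mul_mem_right _ _ (hcz b hb))
    · rw [hαβ, map_mul φ, ← hc b (hle₁ hb), ← hc b' (hle₁ hb')]
      simp only [ε, map_mul]
      ring
  have hmem : ψ a ∈ ((𝓘₁ * 𝓘₁).comap p).ideal P ⊔ f.ker.ideal P := by
    have h := hincl P
    rw [ProjLib.comap_ideal_eq _ p W P eP] at h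
    exact h (Ideal.mem_map_of_mem _ ha)
  obtain ⟨s, hs, k, hk, hsk⟩ := Submodule.mem_sup.1 hmem
  obtain ⟨t, ht, hts⟩ := Ideal.mem_span_singleton_mul.1 (hsq hs)
  have hk' : α k = ε * (1 - ε * t) := by
    have h := congrArg α hsk
    rw [map_add, hαβ, ← hts] at h
    linear_combination h
  have hu : z ∈ (pullback p q).basicOpen (1 - ε * t) := by
    by_contra h
    exact (inferInstance : Q.IsPrime).ne_top ((Ideal.eq_top_iff_one _).2 (by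
      have := Q.add_mem ((mem_prm hzP').2 h) (Q.mul_mem_left ε ht)
      rwa [sub_add_cancel] at this))
  obtain ⟨w, hwu, y', rfl⟩ := mem_closure_iff.1 hz _ ((pullback p q).basicOpen (1 - ε * t)).isOpen hu
  set w := pullback.snd f π₁ y' with hw
  have hwP' : w ∈ P'.1 := (pullback p q).basicOpen_le _ hwu
  have hwf : f (pullback.fst f π₁ y') = π₁ w := by
    rw [hw, ← Scheme.Hom.comp_apply, pullback.condition, Scheme.Hom.comp_apply]
  have hqU : q (π₂ w) ∈ (U : Set X) := by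
    rw [← Scheme.Hom.comp_apply, ← hcomm, Scheme.Hom.comp_apply, ← hwf]
    exact hY ⟨_, rfl⟩
  have hεw : ε ∉ prm w hwP' := by
    intro h
    have h' : φ a ∈ prm (π₂ w) (e₂ hwP') := (appLE_mem_prm π₂ e₂ hwP').1 h
    have hsupp : q (π₂ w) ∈ ((𝓘₁ ⊔ 𝓘₂).support : Set X) := by
      refine (mem_support_iff_le_prm _ W (eW (e₂ hwP'))).2 fun b hb => ?_
      rw [← appLE_mem_prm q eW (e₂ hwP')]
      exact hc b hb ▸ Ideal.mul_mem_left _ _ h'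
    rw [Scheme.IdealSheafData.support_sup] at hsupp
    exact Set.disjoint_left.1 h₁' hsupp.1 hqU
  have hkw : α k ∈ prm w hwP' := by
    rw [appLE_mem_prm π₁ e₁ hwP']
    refine (mem_support_iff_le_prm f.ker P (e₁ hwP')).1 ?_ hk
    rw [← hwf]
    exact f.range_subset_ker_support ⟨_, rfl⟩
  rw [hk'] at hkw
  rcases (inferInstance : (prm w hwP').IsPrime).mem_or_mem hkw with h | h
  · exact hεw h
  · exact (mem_prm hwP').1 h hwu

end Groth.Agent.BlowUpLib
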