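import Groth.Agent.BlowUpLib.Chart
import Groth.Agent.FlatMor12.BlowUpDisjoint
import Mathlib.AlgebraicGeometry.Gluing

/-!
# Existence of blow-ups

The blow-up is glued from the charts, the glueing maps being given by their universal properties.
-/

set_option autoImplicit false
set_option backward.isDefEq.respectTransparency.types false

universe u

open CategoryTheory Limits AlgebraicGeometry TopologicalSpace
open Groth.Agent.FlatMor12.BlowUpDisjoint (isEffCartierIdeal_comap isEffCartierIdeal_of_cover)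

noncomputable section

namespace Groth.Agent.BlowUpLib

variable {X : Scheme.{u}} (I : X.IdealSheafData)

/-- Indices of the charts. -/
abbrev Idx : Type u := Σ U : X.affineOpens, ↥(I.ideal U)

/-- The chart of an index. -/
abbrev C (i : Idx I) : Scheme.{u} := chart I i.1 i.2.1

/-- The structure map of a chart. -/
abbrev cm (i : Idx I) : C I i ⟶ X := chartMap I i.1 i.2.1

/-- The locus in the chart `i` where the generator of `j` generates. -/
abbrev W (i j : Idx I) : (C I i).Opens := locus I (cm I i) j.1 j.2.1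

variable {I}

theorem good_cm (i : Idx I) : BlowUp.IsEffCartierIdeal (I.comap (cm I i)) :=
  (generates_chartMap i.2.2).2

theorem good_comp {Y Z : Scheme.{u}} {g : Y ⟶ X} (h : BlowUp.IsEffCartierIdeal (I.comap g))
    (j : Z ⟶ Y) [IsOpenImmersion j] : BlowUp.IsEffCartierIdeal (I.comap (j ≫ g)) := by
  rw [Scheme.IdealSheafData.comap_comp]
  exact isEffCartierIdeal_comap _ h j

theorem locus_self_eq_top {Z : Scheme.{u}} (i : Idx I) (p : Z ⟶ C I i)
    (hg : BlowUp.IsEffCartierIdeal (I.comap (p ≫ cm I i))) :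
    locus I (p ≫ cm I i) i.1 i.2.1 = ⊤ := by
  rw [← preimage_locus i.2.2 (cm I i) (good_cm i) p hg, locus_chartMap i.2.2]
  rfl

theorem hom_ext_chart {Z : Scheme.{u}} (i : Idx I) {p q : Z ⟶ C I i}
    (hg : BlowUp.IsEffCartierIdeal (I.comap (p ≫ cm I i))) (e : p ≫ cm I i = q ≫ cm I i) : p = q :=
  (existsUnique_lift i.2.2 _ hg (locus_self_eq_top i p hg)).unique rfl e.symm

theorem range_subset_W {Z : Scheme.{u}} {i : Idx I} (p : Z ⟶ C I i) (j : Idx I) {g : Z ⟶ X}
    (e : p ≫ cm I i = g) (hg : BlowUp.IsEffCartierIdeal (I.comap g))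
    (hj : locus I g j.1 j.2.1 = ⊤) : Set.range p ⊆ Set.range (W I i j).ι := by
  rw [Scheme.Opens.range_ι]
  rintro _ ⟨z, rfl⟩
  show z ∈ p ⁻¹ᵁ W I i j
  rw [preimage_locus j.2.2 (cm I i) (good_cm i) p (e ▸ hg), e, hj]
  trivial

theorem locus_ι_eq_top (i j : Idx I) : locus I ((W I i j).ι ≫ cm I i) j.1 j.2.1 = ⊤ := by
  rw [← preimage_locus j.2.2 (cm I i) (good_cm i) _ (good_comp (good_cm i) _)]
  exact Scheme.Opens.ι_preimage_self _

variable (I) in
/-- The chart `j` on the overlap `W i j`. -/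
def toChart (i j : Idx I) : (W I i j : Scheme.{u}) ⟶ C I j :=
  (existsUnique_lift j.2.2 _ (good_comp (good_cm i) (W I i j).ι) (locus_ι_eq_top i j)).choose

theorem toChart_cm (i j : Idx I) : toChart I i j ≫ cm I j = (W I i j).ι ≫ cm I i :=
  (existsUnique_lift j.2.2 _ (good_comp (good_cm i) (W I i j).ι) (locus_ι_eq_top i j)).choose_spec.1

variable (I) in
/-- The transition map. -/
def tMap (i j : Idx I) : (W I i j : Scheme.{u}) ⟶ (W I j i : Scheme.{u}) :=
  IsOpenImmersion.lift (W I j i).ι (toChart I i j)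
    (range_subset_W _ i (toChart_cm i j) (good_comp (good_cm i) _)
      (locus_self_eq_top i _ (good_comp (good_cm i) _)))

@[reassoc]
theorem tMap_cm (i j : Idx I) : tMap I i j ≫ (W I j i).ι ≫ cm I j = (W I i j).ι ≫ cm I i := by
  rw [tMap, IsOpenImmersion.lift_fac_assoc, toChart_cm]

theorem locus_pullback_eq_top (i j k : Idx I) :
    locus I ((pullback.fst (W I i j).ι (W I i k).ι ≫ (W I i j).ι) ≫ cm I i) k.1 k.2.1 = ⊤ := by
  rw [pullback.condition, ← preimage_locus k.2.2 (cm I i) (good_cm i) _ (good_comp (good_cm i) _),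
    Scheme.Hom.comp_preimage, Scheme.Opens.ι_preimage_self]
  rfl

variable (I) in
/-- The map on triple overlaps. -/
def tMap' (i j k : Idx I) :
    pullback (W I i j).ι (W I i k).ι ⟶ pullback (W I j k).ι (W I j i).ι :=
  pullback.lift
    (IsOpenImmersion.lift (W I j k).ι
      (pullback.fst (W I i j).ι (W I i k).ι ≫ tMap I i j ≫ (W I j i).ι)
      (range_subset_W _ k (g := (pullback.fst (W I i j).ι (W I i k).ι ≫ (W I i j).ι) ≫ cm I i)
        (by simp only [Category.assoc, tMap_cm]) (good_comp (good_cm i) _)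
        (locus_pullback_eq_top i j k)))
    (pullback.fst (W I i j).ι (W I i k).ι ≫ tMap I i j)
    (by rw [IsOpenImmersion.lift_fac, Category.assoc])

theorem tMap'_cm (i j k : Idx I) :
    tMap' I i j k ≫ pullback.fst _ _ ≫ (W I j k).ι ≫ cm I j =
      pullback.fst _ _ ≫ (W I i j).ι ≫ cm I i := by
  rw [tMap', pullback.lift_fst_assoc, IsOpenImmersion.lift_fac_assoc]
  simp only [Category.assoc, tMap_cm]

variable (I) in
/-- The glue data of the blow-up. -/
def glueData : Scheme.GlueData.{u} where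
  J := Idx I
  U := C I
  V ij := (W I ij.1 ij.2).toScheme
  f i j := (W I i j).ι
  f_id i := by
    have h : W I i i = ⊤ := locus_chartMap i.2.2
    have : Epi (W I i i).ι.base := by
      rw [TopCat.epi_iff_surjective]
      exact fun y => ⟨⟨y, h.ge trivial⟩, rfl⟩
    exact IsOpenImmersion.isIso _
  t i j := tMap I i j
  t_id i := by
    rw [← cancel_mono (W I i i).ι, Category.id_comp]
    refine hom_ext_chart i ?_ ?_
    · rw [Category.assoc, tMap_cm]
      exact good_comp (good_cm i) _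
    · rw [Category.assoc, tMap_cm]
  t' := tMap' I
  t_fac i j k := by rw [tMap', pullback.lift_snd]
  cocycle i j k := by
    rw [← cancel_mono (pullback.fst (W I i j).ι (W I i k).ι), ← cancel_mono (W I i j).ι,
      Category.id_comp]
    refine hom_ext_chart i ?_ ?_
    · simp only [Category.assoc, tMap'_cm]
      rw [← Category.assoc]
      exact good_comp (good_cm i) _
    · simp only [Category.assoc, tMap'_cm]
  f_open i j := inferInstance

variable (I) in
/-- The blow-up. -/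
def B : Scheme.{u} := (glueData I).glued

/-- The open immersion of a chart. -/
def chartι (i : Idx I) : C I i ⟶ B I := (glueData I).ι i

instance (i : Idx I) : IsOpenImmersion (chartι i) :=
  inferInstanceAs (IsOpenImmersion ((glueData I).ι i))

theorem exists_chartι (x : B I) : ∃ (i : Idx I) (y : C I i), chartι i y = x :=
  (glueData I).ι_jointly_surjective x

theorem tMap_chartι (i j : Idx I) : tMap I i j ≫ (W I j i).ι ≫ chartι j = (W I i j).ι ≫ chartι i :=
  (glueData I).glue_condition i j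

variable (I) in
/-- The blow-up morphism. -/
def blowUpMap : B I ⟶ X :=
  Multicoequalizer.desc _ _ (fun i => cm I i) (by
    rintro ⟨i, j⟩
    show (W I i j).ι ≫ cm I i = (tMap I i j ≫ (W I j i).ι) ≫ cm I j
    rw [Category.assoc, tMap_cm])

theorem ι_blowUpMap (i : Idx I) : chartι i ≫ blowUpMap I = cm I i := by
  exact Multicoequalizer.π_desc _ _ _ _ _

theorem good_blowUpMap : BlowUp.IsEffCartierIdeal (I.comap (blowUpMap I)) := by
  refine isEffCartierIdeal_of_cover _ fun x => ?_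
  obtain ⟨i, y, hy⟩ := exists_chartι x
  refine ⟨_, chartι i, inferInstance, ⟨y, hy⟩, ?_⟩
  rw [← Scheme.IdealSheafData.comap_comp, ι_blowUpMap]
  exact good_cm i

theorem ι_eq_of_eq {Z : Scheme.{u}} (i j : Idx I) (p : Z ⟶ C I i) (q : Z ⟶ C I j)
    (hg : BlowUp.IsEffCartierIdeal (I.comap (p ≫ cm I i))) (e : p ≫ cm I i = q ≫ cm I j) :
    p ≫ chartι i = q ≫ chartι j := by
  have hj : locus I (p ≫ cm I i) j.1 j.2.1 = ⊤ := by
    rw [e]; exact locus_self_eq_top j q (e ▸ hg)
  obtain ⟨p', rfl⟩ : ∃ p', p' ≫ (W I i j).ι = p :=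
    ⟨_, IsOpenImmersion.lift_fac _ _ (range_subset_W p j rfl hg hj)⟩
  have hq : p' ≫ tMap I i j ≫ (W I j i).ι = q := by
    refine hom_ext_chart j ?_ ?_
    · simp only [Category.assoc, tMap_cm]
      rwa [Category.assoc] at hg
    · simp only [Category.assoc, tMap_cm]
      rwa [Category.assoc] at e
  rw [← hq, Category.assoc, Category.assoc, Category.assoc]
  exact congrArg (p' ≫ ·) (tMap_chartι i j).symm

theorem preimage_opensRange_ι {Y : Scheme.{u}} (h : Y ⟶ B I) (i : Idx I)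
    (hg : BlowUp.IsEffCartierIdeal (I.comap (h ≫ blowUpMap I))) :
    locus I (h ≫ blowUpMap I) i.1 i.2.1 ≤ h ⁻¹ᵁ (chartι i).opensRange := by
  intro y hy
  obtain ⟨j, w, hw⟩ := exists_chartι (h y)
  let U₀ := h ⁻¹ᵁ (chartι j).opensRange
  let p := IsOpenImmersion.lift (chartι j) (U₀.ι ≫ h) (by
    rintro _ ⟨z, rfl⟩
    exact z.2)
  have hp : p ≫ chartι j = U₀.ι ≫ h := IsOpenImmersion.lift_fac _ _ _
  let y' : U₀ := ⟨y, ⟨w, hw⟩⟩
  have hpc : p ≫ cm I j = U₀.ι ≫ h ≫ blowUpMap I := by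
    rw [← ι_blowUpMap, reassoc_of% hp]
  have hpy : p y' ∈ W I j i := by
    show y' ∈ p ⁻¹ᵁ W I j i
    rw [preimage_locus i.2.2 (cm I j) (good_cm j) p (hpc ▸ good_comp hg _), hpc,
      ← preimage_locus i.2.2 _ hg U₀.ι (good_comp hg _)]
    exact hy
  have hv : (chartι j) (p y') = h y := by
    rw [← Scheme.Hom.comp_apply, hp]
    rfl
  refine ⟨(tMap I j i ≫ (W I i j).ι) (⟨p y', hpy⟩ : W I j i), ?_⟩
  rw [← hv, ← Scheme.Hom.comp_apply, Category.assoc]
  exact congrArg (fun m : (W I j i).toScheme ⟶ B I => m ⟨p y', hpy⟩)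
    (tMap_chartι j i)

theorem ι_comp_eq {Y : Scheme.{u}} {g : Y ⟶ X} (hg : BlowUp.IsEffCartierIdeal (I.comap g))
    (h : Y ⟶ B I) (hh : h ≫ blowUpMap I = g) (i : Idx I)
    (p : (locus I g i.1 i.2.1 : Scheme.{u}) ⟶ C I i)
    (hp : p ≫ cm I i = (locus I g i.1 i.2.1).ι ≫ g) :
    (locus I g i.1 i.2.1).ι ≫ h = p ≫ chartι i := by
  have hr : Set.range ((locus I g i.1 i.2.1).ι ≫ h) ⊆ Set.range (chartι i) := by
    rintro _ ⟨z, rfl⟩
    have hle := preimage_opensRange_ι h i (by rw [hh]; exact hg)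
    rw [hh] at hle
    exact hle z.2
  obtain ⟨q, hq⟩ : ∃ q, q ≫ chartι i = (locus I g i.1 i.2.1).ι ≫ h :=
    ⟨_, IsOpenImmersion.lift_fac _ _ hr⟩
  have hqc : q ≫ cm I i = (locus I g i.1 i.2.1).ι ≫ g := by
    rw [← ι_blowUpMap, reassoc_of% hq, hh]
  rw [← hq, hom_ext_chart i (hqc ▸ good_comp hg _) (hqc.trans hp.symm)]

theorem isBlowUp_blowUpMap : BlowUp.IsBlowUp (blowUpMap I) I := by
  refine ⟨good_blowUpMap, fun Y g hg => ?_⟩
  have hcov : IsOpenCover (fun i : Idx I => locus I g i.1 i.2.1) := by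
    refine top_le_iff.1 fun y _ => ?_
    obtain ⟨_, ⟨U, hU, rfl⟩, hyU, -⟩ :=
      X.isBasis_affineOpens.exists_subset_of_mem_open (Set.mem_univ (g y)) isOpen_univ
    obtain ⟨a, ha, hy⟩ := exists_mem_locus g hg (U := ⟨U, hU⟩) hyU (I.ideal ⟨U, hU⟩ : Set _)
      (Ideal.span_eq _)
    exact Opens.mem_iSup.2 ⟨⟨⟨U, hU⟩, ⟨a, ha⟩⟩, hy⟩
  let 𝒰 := Y.openCoverOfIsOpenCover _ hcov
  have hex : ∀ i : Idx I, ∃ p : (locus I g i.1 i.2.1 : Scheme.{u}) ⟶ C I i,
      p ≫ cm I i = (locus I g i.1 i.2.1).ι ≫ g := fun i =>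
    (existsUnique_lift i.2.2 _ (good_comp hg _) (by
      rw [← preimage_locus i.2.2 g hg _ (good_comp hg _)]
      exact Scheme.Opens.ι_preimage_self _)).exists
  choose p hp using hex
  let h : Y ⟶ B I := 𝒰.glueMorphisms (fun i => p i ≫ chartι i) (fun (i j : Idx I) => by
    show pullback.fst (locus I g i.1 i.2.1).ι (locus I g j.1 j.2.1).ι ≫ _ =
      pullback.snd (locus I g i.1 i.2.1).ι (locus I g j.1 j.2.1).ι ≫ _
    refine (Category.assoc _ _ _).symm.trans
      ((ι_eq_of_eq i j _ _ ?_ ?_).trans (Category.assoc _ _ _))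
    · rw [Category.assoc, hp, ← Category.assoc]
      exact good_comp hg _
    · rw [Category.assoc, hp, Category.assoc, hp, pullback.condition_assoc])
  have hh : ∀ i : Idx I, (locus I g i.1 i.2.1).ι ≫ h = p i ≫ chartι i := fun i =>
    𝒰.ι_glueMorphisms _ _ i
  refine ⟨h, 𝒰.hom_ext _ _ fun (i : Idx I) => ?_, fun h' hh' => 𝒰.hom_ext _ _ fun (i : Idx I) => ?_⟩
  · show (locus I g i.1 i.2.1).ι ≫ h ≫ blowUpMap I = (locus I g i.1 i.2.1).ι ≫ g
    rw [reassoc_of% (hh i), ι_blowUpMap, hp]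
  · show (locus I g i.1 i.2.1).ι ≫ h' = (locus I g i.1 i.2.1).ι ≫ h
    exact (ι_comp_eq hg h' hh' i (p i) (hp i)).trans (hh i).symm

variable (I) in
theorem exists_isBlowUp : ∃ (X' : Scheme.{u}) (b : X' ⟶ X), BlowUp.IsBlowUp b I :=
  ⟨_, _, isBlowUp_blowUpMap⟩

end Groth.Agent.BlowUpLib
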