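import Groth.Agent.BlowUpLib.Disjoint
import Groth.Agent.FlatMorStrata.Extend
import Mathlib.AlgebraicGeometry.PullbackCarrier

/-!
# An admissible blow-up separating strict transforms
-/

set_option autoImplicit false
set_option backward.isDefEq.respectTransparency.types false

universe u

open CategoryTheory Limits AlgebraicGeometry TopologicalSpace

namespace Groth.Agent.BlowUpLib

/-- A finite type ideal with prescribed support with quasi-compact complement. -/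
theorem exists_finiteType_support_eq {X : Scheme.{u}} [CompactSpace X] [QuasiSeparatedSpace X]
    (T : Set X) (hT : IsClosed T) (hTc : IsCompact Tᶜ) :
    ∃ G : X.IdealSheafData, BlowUp.IsFiniteTypeIdeal G ∧ (G.support : Set X) = T := by
  let G₀ := Scheme.IdealSheafData.vanishingIdeal (⟨T, hT⟩ : Closeds X)
  have hsupp : (G₀.support : Set X) = T := rfl
  let U : X.affineOpens := ⟨⊥, isAffineOpen_bot X⟩
  have hU : (G₀.ideal U).FG := by
    haveI : Subsingleton Γ(X, U.1) :=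
      CommRingCat.subsingleton_of_isTerminal X.sheaf.isTerminalOfEmpty
    rw [Subsingleton.elim (G₀.ideal U) ⊥]
    exact Submodule.fg_bot
  obtain ⟨G, -, hG, -, hGs⟩ := FlatMorStrata.exists_fg_le G₀ U hU
  exact ⟨G, hG, by rw [hGs (by rwa [hsupp]), hsupp]⟩

theorem isFiniteType_pow {X : Scheme.{u}} {I : X.IdealSheafData} (hI : BlowUp.IsFiniteTypeIdeal I)
    (n : ℕ) : BlowUp.IsFiniteTypeIdeal (I ^ n) := fun U => by
  rw [Scheme.IdealSheafData.ideal_pow, Pi.pow_apply]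
  exact (hI U).pow

theorem exists_affine_mem_le {X : Scheme.{u}} {x : X} {O : X.Opens} (hx : x ∈ O) :
    ∃ U : X.affineOpens, x ∈ U.1 ∧ U.1 ≤ O := by
  obtain ⟨U, hU, hxU, hle⟩ := exists_isAffineOpen_mem_and_subset hx
  exact ⟨⟨U, hU⟩, hxU, hle⟩

/-- If the inverse image of a finite type ideal vanishes on `V(B)`, a power of it lies in `B`. -/
theorem exists_pow_comap_le {X W : Scheme.{u}} [CompactSpace W] (p : W ⟶ X) (I : X.IdealSheafData)
    (hI : BlowUp.IsFiniteTypeIdeal I) (B : W.IdealSheafData)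
    (h : ∀ w : W, w ∈ (B.support : Set W) → p w ∈ (I.support : Set X)) :
    ∃ n : ℕ, (I ^ (n + 1)).comap p ≤ B := by
  classical
  have hcov : ∀ w : W, ∃ (P : W.affineOpens) (U : X.affineOpens), w ∈ P.1 ∧ P.1 ≤ p ⁻¹ᵁ U.1 := by
    intro w
    obtain ⟨U, hwU, -⟩ := exists_affine_mem_le (show p w ∈ (⊤ : X.Opens) from trivial)
    obtain ⟨P, hwP, hle⟩ := exists_affine_mem_le (show w ∈ p ⁻¹ᵁ U.1 from hwU)
    exact ⟨P, U, hwP, hle⟩
  choose P U hwP hPU using hcov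
  obtain ⟨s, hs⟩ := isCompact_univ.elim_finite_subcover (fun w : W => ((P w).1 : Set W))
    (fun w => (P w).1.2) (fun w _ => Set.mem_iUnion.2 ⟨w, hwP w⟩)
  have key : ∀ w : W, ∃ n : ℕ, ∀ m, n ≤ m → ((I ^ m).comap p).ideal (P w) ≤ B.ideal (P w) := by
    intro w
    let φ := (p.appLE (U w).1 (P w).1 (hPU w)).hom
    have hfg : ((I.ideal (U w)).map φ).FG := (hI _).map _
    have hrad : (I.ideal (U w)).map φ ≤ (B.ideal (P w)).radical := by
      rw [Ideal.radical_eq_sInf, Ideal.map_le_iff_le_comap]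
      intro a ha
      rw [Ideal.mem_comap, Ideal.mem_sInf]
      rintro r ⟨hBr, hr⟩
      let y := (P w).2.fromSpec ⟨r, hr⟩
      have hyP : y ∈ (P w).1 := by
        rw [← SetLike.mem_coe, ← (P w).2.range_fromSpec]
        exact ⟨_, rfl⟩
      have hiff : ∀ s, y ∈ W.basicOpen s ↔ s ∉ r := fun s => by
        show (⟨r, hr⟩ : PrimeSpectrum Γ(W, (P w).1)) ∈ (P w).2.fromSpec ⁻¹ᵁ W.basicOpen s ↔ _
        rw [(P w).2.fromSpec_preimage_basicOpen]
        rfl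
      have hy : y ∈ (B.support : Set W) := by
        rw [mem_support_iff_le_prm B (P w) hyP]
        intro s hs
        rw [mem_prm, hiff, not_not]
        exact hBr hs
      have h1 := (mem_support_iff_le_prm I (U w) (hPU w hyP)).1 (h y hy) ha
      rw [← appLE_mem_prm p (hPU w) hyP, mem_prm, hiff, not_not] at h1
      exact h1
    obtain ⟨n, hn⟩ := Ideal.exists_pow_le_of_le_radical_of_fg hrad hfg
    refine ⟨n, fun m hm => ?_⟩
    rw [ProjLib.comap_ideal_eq _ p (U w) (P w) (hPU w), Scheme.IdealSheafData.ideal_pow, Pi.pow_apply,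
      Ideal.map_pow]
    exact (Ideal.pow_le_pow_right hm).trans hn
  choose n hn using key
  refine ⟨s.sup n, Scheme.IdealSheafData.le_of_iSup_eq_top (fun w : s => P w.1) ?_ fun w =>
    hn w.1 _ ((Finset.le_sup w.2).trans (Nat.le_succ _))⟩
  refine top_le_iff.1 fun x _ => ?_
  obtain ⟨w, hw, hxw⟩ := Set.mem_iUnion₂.1 (hs (Set.mem_univ x))
  exact Opens.mem_iSup.2 ⟨⟨w, hw⟩, hxw⟩

theorem exists_admissible_separating
    {X₁ X₂ : Scheme.{u}} [CompactSpace X₁] [QuasiSeparatedSpace X₁]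
    (q : X₂ ⟶ X₁) (V₁ : X₁.Opens) (hV₁ : IsCompact (V₁ : Set X₁))
    (U : X₂.Opens) (hU : U ≤ q ⁻¹ᵁ V₁)
    (Z₁ : Set X₁) (hZ₁ : IsClosed Z₁) (hZ₁c : IsCompact Z₁ᶜ)
    (Z₂ : Set X₂) (hZ₂ : IsClosed Z₂) (hZ₂c : IsCompact Z₂ᶜ)
    (hYZ : (fun x => q x) ⁻¹' (Z₁ ∩ (V₁ : Set X₁)) ⊆ Z₂) :
    ∃ 𝓔 : X₁.IdealSheafData, BlowUp.IsFiniteTypeIdeal 𝓔 ∧ (𝓔.support : Set X₁) ⊆ Z₁ \ (V₁ : Set X₁) ∧
      ∀ (X₁' : Scheme.{u}) (c : X₁' ⟶ X₁), BlowUp.IsEffCartierIdeal (𝓔.comap c) →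
        (fun z => (pullback.snd q c) z) ⁻¹' closure ((fun x => c x) ⁻¹' (Z₁ ∩ (V₁ : Set X₁))) ∩
            closure ((fun z => (pullback.fst q c) z) ⁻¹' (U : Set X₂)) ⊆
          (fun z => (pullback.fst q c) z) ⁻¹' Z₂ := by
  obtain ⟨I₁, hI₁, hs₁⟩ := exists_finiteType_support_eq Z₁ hZ₁ hZ₁c
  obtain ⟨I₀, hI₀, hs₀⟩ := exists_finiteType_support_eq (Z₁ \ (V₁ : Set X₁))
    (hZ₁.sdiff V₁.2)
    (by rw [Set.diff_eq, Set.compl_inter, compl_compl]; exact hZ₁c.union hV₁)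
  let W : X₂.Opens := ⟨Z₂ᶜ, hZ₂.isOpen_compl⟩
  haveI : CompactSpace (W : Scheme.{u}) := isCompact_iff_compactSpace.1 hZ₂c
  let p : (W : Scheme.{u}) ⟶ X₁ := W.ι ≫ q
  have hout : ∀ w : (W : Scheme.{u}), p w ∈ Z₁ → p w ∉ (V₁ : Set X₁) := by
    intro w h1 h2
    exact w.2 (hYZ (show q (W.ι w) ∈ Z₁ ∩ (V₁ : Set X₁) from ⟨h1, h2⟩))
  obtain ⟨n, hn⟩ := exists_pow_comap_le p I₀ hI₀ ((I₁ * I₁).comap p) fun w hw => by
    rw [Scheme.IdealSheafData.support_comap, Scheme.IdealSheafData.support_mul, sup_idem] at hw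
    have hw1 : p w ∈ Z₁ := hs₁ ▸ hw
    rw [hs₀]
    exact ⟨hw1, hout w hw1⟩
  have hs₂ : ((I₀ ^ (n + 1)).support : Set X₁) = Z₁ \ (V₁ : Set X₁) := by
    rw [Scheme.IdealSheafData.support_pow_succ, hs₀]
  refine ⟨I₁ ⊔ I₀ ^ (n + 1), ?_, ?_, fun X₁' c hc => ?_⟩
  · intro V
    rw [Scheme.IdealSheafData.ideal_sup, Pi.sup_apply]
    exact Submodule.FG.sup (hI₁ V) (isFiniteType_pow hI₀ _ V)
  · rw [Scheme.IdealSheafData.support_sup]
    exact fun x hx => hs₂ ▸ hx.2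
  let U₀ : X₁.Opens := V₁ ⊓ ⟨Z₁ᶜ, hZ₁.isOpen_compl⟩
  let Y : Scheme.Opens (W : Scheme.{u}) := W.ι ⁻¹ᵁ U
  have hY : Set.range (fun y => p (Y.ι y)) ⊆ (U₀ : Set X₁) := by
    rintro _ ⟨y, rfl⟩
    have hv : p (Y.ι y) ∈ (V₁ : Set X₁) := hU y.2
    exact ⟨hv, fun h => hout _ h hv⟩
  have hdisj := disjoint_closure_blowUp p U₀ V₁ Y.ι hY I₁ (I₀ ^ (n + 1))
    (fun x hx => hs₁ ▸ (not_not.1 fun h => hx.2 ⟨hx.1, h⟩ : x ∈ Z₁))
    (Set.disjoint_left.2 fun x hx hxU => hxU.2 (hs₁ ▸ hx))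
    (by rw [hs₂, hs₁]) (hn.trans le_sup_left) c hc
  rintro z ⟨hzT, hzU⟩
  by_contra hzZ
  let O : Scheme.Opens (pullback q c) := pullback.fst q c ⁻¹ᵁ W
  let l : (O : Scheme.{u}) ⟶ W := IsOpenImmersion.lift W.ι (O.ι ≫ pullback.fst q c) (by
    rw [Scheme.Opens.range_ι]
    rintro _ ⟨o, rfl⟩
    exact o.2)
  let k : (O : Scheme.{u}) ⟶ pullback p c := pullback.lift l (O.ι ≫ pullback.snd q c) (by
    rw [← Category.assoc, IsOpenImmersion.lift_fac, Category.assoc, Category.assoc, pullback.condition])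
  let z₀ : (O : Scheme.{u}) := ⟨z, hzZ⟩
  have hk₂ : ∀ o, pullback.snd p c (k o) = pullback.snd q c (O.ι o) := fun o => by
    rw [← Scheme.Hom.comp_apply, pullback.lift_snd]; rfl
  refine (Set.disjoint_left.1 hdisj) (?_ : k z₀ ∈ _) ?_
  · have hz₀ : z₀ ∈ closure ((fun o => pullback.fst q c (O.ι o)) ⁻¹' (U : Set X₂)) := by
      refine closure_subtype.2 ?_
      refine mem_closure_iff.2 fun N hN hzN => ?_
      obtain ⟨w, ⟨hwN, hwO⟩, hwU⟩ := mem_closure_iff.1 hzU (N ∩ O) (hN.inter O.2) ⟨hzN, hzZ⟩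
      exact ⟨w, hwN, ⟨w, hwO⟩, hwU, rfl⟩
    refine closure_mono ?_ (image_closure_subset_closure_image k.continuous ⟨z₀, hz₀, rfl⟩)
    rintro _ ⟨o, ho, rfl⟩
    show k o ∈ Set.range _
    rw [Scheme.Pullback.range_snd]
    show pullback.fst p c (k o) ∈ Set.range Y.ι
    rw [← Scheme.Hom.comp_apply, pullback.lift_fst, Scheme.Opens.range_ι]
    show W.ι (l o) ∈ U
    rw [← Scheme.Hom.comp_apply, IsOpenImmersion.lift_fac]
    exact ho
  · show pullback.snd p c (k z₀) ∈ closure _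
    rw [hk₂]
    refine closure_mono ?_ hzT
    intro x hx
    exact ⟨hx.2, fun h => h.2 hx.1⟩

end Groth.Agent.BlowUpLib
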