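import Groth.Agent.PnEmb.Segre
import Groth.Agent.PnEmb.Ample
import Groth.Agent.ZeroSchLib.Basic
import Mathlib.AlgebraicGeometry.FunctionField

/-!
# Coordinates of a birational morphism into projective space

For an integral scheme `Z` with a morphism `g` to projective space, the quotients of the coordinates
give rational functions; for a birational `f : Z ⟶ X` into a scheme with an ample module they are
cleared by global sections of a power of the ample module, whose coordinates generate an ideal sheaf.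
-/

set_option autoImplicit false
set_option linter.unusedSectionVars false
set_option backward.isDefEq.respectTransparency.types false
set_option maxHeartbeats 800000

universe u

open AlgebraicGeometry CategoryTheory CategoryTheory.Limits TopologicalSpace Opposite
open Groth.Agent.Coherent Groth.Agent.PicLib Groth.Agent.AmpleLib Groth.Agent.PnEmb

namespace Groth.Agent.BlowUpLib.Birat

variable {Z : Scheme.{u}} [AlgebraicGeometry.IsIntegral Z]

theorem eta_mem {U : Z.Opens} {z : Z} (h : z ∈ U) : genericPoint Z ∈ U :=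
  (genericPoint_specializes z).mem_open U.2 h

/-- The germ at the generic point. -/
noncomputable def gη (U : Z.Opens) (h : genericPoint Z ∈ U) : Γ(Z, U) →+* Z.functionField :=
  (Z.presheaf.germ U (genericPoint Z) h).hom

theorem gη_res {U V : Z.Opens} (hVU : V ≤ U) (h : genericPoint Z ∈ V) (a : Γ(Z, U)) :
    gη V h (PicLib.res hVU a) = gη U (hVU h) a :=
  Z.presheaf.germ_res_apply (homOfLE hVU) _ h a

theorem gη_injective (U : Z.Opens) (h : genericPoint Z ∈ U) : Function.Injective (gη U h) :=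
  germ_injective_of_isIntegral Z _ h

section coords

variable {N : ℕ} (g : Z ⟶ PZ.{u} N)

/-- The coordinate charts pulled back. -/
noncomputable abbrev P (k : Fin (N + 1)) : Z.Opens := g ⁻¹ᵁ chartOpen N (ULift.{u} ℤ) k

/-- The pulled back quotient `x_j / x_k`. -/
noncomputable def q (k j : Fin (N + 1)) : Γ(Z, P g k) :=
  (g.app (chartOpen N (ULift.{u} ℤ) k)).hom (quot k j)

theorem q_smul (k j : Fin (N + 1)) {W : Z.Opens} (hW : W ≤ P g k) :
    PicLib.res hW (q g k j) • resM _ (le_top : W ≤ ⊤) (PicLib.pullSec g (co k)) =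
      resM _ (le_top : W ≤ ⊤) (PicLib.pullSec g (co j)) :=
  quot_smul g k j W hW

theorem isGen_co (k : Fin (N + 1)) {W : Z.Opens} (hW : W ≤ P g k) :
    IsGen _ W (resM _ (le_top : W ≤ ⊤) (PicLib.pullSec g (co k))) :=
  (le_glocus_iff _ W).1 (hW.trans (preimage_chart g k).ge)

theorem res_q_mul (k m j : Fin (N + 1)) {W : Z.Opens} (hk : W ≤ P g k) (hm : W ≤ P g m) :
    PicLib.res hk (q g k j) * PicLib.res hm (q g m k) = PicLib.res hm (q g m j) := by
  refine ((isGen_co g m hm) W le_rfl).1 ?_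
  simp only [resM_self]
  rw [mul_smul, q_smul g m k hm, q_smul g k j hk, q_smul g m j hm]

theorem res_q_self (k : Fin (N + 1)) {W : Z.Opens} (hk : W ≤ P g k) :
    PicLib.res hk (q g k k) = 1 := by
  refine ((isGen_co g k hk) W le_rfl).1 ?_
  simp only [resM_self]
  rw [q_smul g k k hk, one_smul]

theorem basicOpen_q_le (m k : Fin (N + 1)) : Z.basicOpen (q g m k) ≤ P g k := by
  refine le_trans ?_ (preimage_chart g k).le
  have hm := isGen_co g m (le_refl (P g m))
  have hc : hm.coef le_rfl (resM _ (le_top : P g m ≤ ⊤) (PicLib.pullSec g (co k))) = q g m k := by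
    refine hm.coef_eq _ ?_
    rw [resM_self]
    have h := q_smul g m k (le_refl (P g m))
    rwa [show PicLib.res (le_refl (P g m)) (q g m k) = q g m k from
      ConcreteCategory.congr_hom (Z.presheaf.map_id _) _] at h
  rw [← hc, ← glocus_inf _ hm]
  exact inf_le_left

theorem exists_mem_P (z : Z) : ∃ k, z ∈ P g k := by
  obtain ⟨i, hi⟩ := UPLib.exists_degOne_projSpace (R := CommRingCat.of (ULift.{u} ℤ)) N (g z)
  exact ⟨i, hi⟩

/-- The ratio `x_j / x_k` as a rational function. -/
noncomputable def kap (k j : Fin (N + 1)) (h : genericPoint Z ∈ P g k) : Z.functionField :=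
  gη _ h (q g k j)

theorem kap_mul (k m j : Fin (N + 1)) (hk : genericPoint Z ∈ P g k) (hm : genericPoint Z ∈ P g m) :
    kap g k j hk * kap g m k hm = kap g m j hm := by
  have h := congrArg (gη (P g k ⊓ P g m) ⟨hk, hm⟩)
    (res_q_mul g k m j (W := P g k ⊓ P g m) inf_le_left inf_le_right)
  rwa [map_mul, gη_res, gη_res, gη_res] at h

theorem kap_self (k : Fin (N + 1)) (hk : genericPoint Z ∈ P g k) : kap g k k hk = 1 := by
  have h := congrArg (gη (P g k) hk) (res_q_self g k (le_refl (P g k)))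
  rwa [gη_res, map_one] at h

theorem kap_ne_zero_iff (k₀ k : Fin (N + 1)) (h₀ : genericPoint Z ∈ P g k₀) :
    kap g k₀ k h₀ ≠ 0 ↔ genericPoint Z ∈ P g k := by
  refine ⟨fun h => basicOpen_q_le g k₀ k ?_, fun hk h => ?_⟩
  · rw [Scheme.mem_basicOpen Z _ _ h₀]
    exact isUnit_iff_ne_zero.2 h
  · have := kap_mul g k k₀ k₀ hk h₀
    rw [h, mul_zero, kap_self] at this
    exact zero_ne_one this

end coords

section rho

variable {X : Scheme.{u}} (f : Z ⟶ X)

/-- A function on an open of `X` as a rational function on `Z`. -/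
noncomputable def rho (U : X.Opens) (hU : genericPoint Z ∈ f ⁻¹ᵁ U) : Γ(X, U) →+* Z.functionField :=
  (gη (f ⁻¹ᵁ U) hU).comp (f.app U).hom

theorem rho_res {U V : X.Opens} (hVU : V ≤ U) (hV : genericPoint Z ∈ f ⁻¹ᵁ V) (a : Γ(X, U)) :
    rho f V hV (PicLib.res hVU a) = rho f U (f.preimage_mono hVU hV) a := by
  show gη (f ⁻¹ᵁ V) hV ((f.app V).hom (PicLib.res hVU a)) = gη (f ⁻¹ᵁ U) _ ((f.app U).hom a)
  rw [show (f.app V).hom (PicLib.res hVU a) = PicLib.res (f.preimage_mono hVU) ((f.app U).hom a) from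
    ConcreteCategory.congr_hom (f.naturality (homOfLE hVU).op) a]
  exact gη_res _ hV _

theorem gη_appLE {U : X.Opens} {W : Z.Opens} (e : W ≤ f ⁻¹ᵁ U) (hW : genericPoint Z ∈ W) (a : Γ(X, U)) :
    gη W hW ((f.appLE U W e).hom a) = rho f U (e hW) a :=
  gη_res e hW _

variable [AlgebraicGeometry.IsIntegral X]

theorem eta_mem_preimage (hgen : f (genericPoint Z) = genericPoint X) {U : X.Opens} {x : X} (hx : x ∈ U) :
    genericPoint Z ∈ f ⁻¹ᵁ U := by
  show f (genericPoint Z) ∈ U
  rw [hgen]
  exact eta_mem hx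

theorem rho_injective (hgen : f (genericPoint Z) = genericPoint X) (U : X.Opens)
    (hU : genericPoint Z ∈ f ⁻¹ᵁ U) : Function.Injective (rho f U hU) := by
  rw [injective_iff_map_eq_zero]
  intro a ha
  by_contra hne
  obtain ⟨x, hx⟩ : ∃ x, x ∈ X.basicOpen a := by
    by_contra hemp
    push Not at hemp
    exact hne ((basicOpen_eq_bot_iff a).1 (Opens.ext (Set.eq_empty_of_forall_notMem hemp)))
  have h1 : genericPoint Z ∈ f ⁻¹ᵁ X.basicOpen a := eta_mem_preimage f hgen hx
  rw [Scheme.preimage_basicOpen, Scheme.mem_basicOpen Z _ _ hU] at h1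
  exact (isUnit_iff_ne_zero.1 h1) ha

/-- Finitely many rational functions on `Z` have a common denominator on an affine open of `X`. -/
theorem exists_common_denominator (hsurj : Function.Surjective (f.stalkMap (genericPoint Z)).hom)
    {U : X.Opens} (hUa : IsAffineOpen U) (hU : genericPoint Z ∈ f ⁻¹ᵁ U) {ι : Type*} [Finite ι]
    (r : ι → Z.functionField) :
    ∃ (b : Γ(X, U)) (a : ι → Γ(X, U)), rho f U hU b ≠ 0 ∧ ∀ j, r j * rho f U hU b = rho f U hU (a j) := by
  classical
  have := Fintype.ofFinite ι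
  letI := TopCat.Presheaf.algebra_section_stalk X.presheaf ⟨f (genericPoint Z), hU⟩
  haveI := hUa.isLocalization_stalk ⟨f (genericPoint Z), hU⟩
  have hg : ∀ a : Γ(X, U), (f.stalkMap (genericPoint Z)).hom (X.presheaf.germ U _ hU a) =
      rho f U hU a := fun a => Scheme.Hom.germ_stalkMap_apply f U _ hU a
  have key : ∀ j, ∃ a b : Γ(X, U), rho f U hU b ≠ 0 ∧ r j * rho f U hU b = rho f U hU a := by
    intro j
    obtain ⟨σ, hσ⟩ := hsurj (r j)
    obtain ⟨⟨a, b⟩, hab⟩ := IsLocalization.surj
      (M := (hUa.primeIdealOf ⟨f (genericPoint Z), hU⟩).asIdeal.primeCompl) σ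
    refine ⟨a, b.1, ?_, ?_⟩
    · have hu := IsLocalization.map_units (X.presheaf.stalk (f (genericPoint Z))) b
      have hu' := hu.map (f.stalkMap (genericPoint Z)).hom
      erw [hg] at hu'
      exact isUnit_iff_ne_zero.1 hu'
    · have := congrArg (f.stalkMap (genericPoint Z)).hom hab
      rw [map_mul, hσ] at this
      erw [hg, hg] at this
      exact this
  choose a b hb hab using key
  refine ⟨∏ i, b i, fun j => a j * ∏ i ∈ Finset.univ.erase j, b i, ?_, fun j => ?_⟩
  · rw [map_prod]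
    exact Finset.prod_ne_zero_iff.2 fun i _ => hb i
  · rw [map_mul, ← hab, mul_assoc, ← map_mul, Finset.mul_prod_erase _ _ (Finset.mem_univ j)]

end rho

section sections

variable {X : Scheme.{u}} {L : X.Modules}

theorem exists_extend_pow_finite [CompactSpace X] [QuasiSeparatedSpace X] (hL : PicF.IsInvertible L)
    (t : Γ(L, ⊤)) {ι : Type*} [Finite ι] (p : ι → Γ(X, glocus L t)) :
    ∃ (n : ℕ) (T : ι → Γ(CohB1.tensorPow L n, ⊤)),
      ∀ j, resM _ (le_top : glocus L t ≤ ⊤) (T j) = p j • powSec (resM L le_top t) n := by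
  classical
  have := Fintype.ofFinite ι
  choose n T hT using fun j => exists_extend_pow (L := L) (a := t) hL (p j)
  have lift : ∀ j, ∀ m, n j ≤ m → ∃ T' : Γ(CohB1.tensorPow L m, ⊤),
      resM _ (le_top : glocus L t ≤ ⊤) T' = p j • powSec (resM L le_top t) m := by
    intro j m hm
    obtain ⟨d, rfl⟩ := Nat.exists_eq_add_of_le hm
    obtain ⟨e, he⟩ := exists_powIso hL (n j) d
    refine ⟨e.hom.app ⊤ (tmul (T j) (powSec t d)), ?_⟩
    rw [← app_resM, resM_tmul, hT j, resM_powSec, tmul_smul_left]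
    exact (Scheme.Modules.Hom.app_smul e.hom _ _).trans (congrArg _ (he _ _))
  choose T' hT' using fun j => lift j _ (Finset.le_sup (f := n) (Finset.mem_univ j))
  exact ⟨_, T', hT'⟩

end sections

section ideal

variable {X : Scheme.{u}} [AlgebraicGeometry.IsIntegral X] (f : Z ⟶ X)

/-- An ideal sheaf generated, near every point, by elements proportional to given rational functions. -/
theorem exists_ideal (hgen : f (genericPoint Z) = genericPoint X)
    (hsurj : Function.Surjective (f.stalkMap (genericPoint Z)).hom) {M : X.Modules} (hM : CohB1.IsAmple M)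
    {N : ℕ} (r : Fin (N + 1) → Z.functionField) (hr : ∃ k, r k ≠ 0) :
    ∃ I : X.IdealSheafData, ∀ x : X, ∃ U : X.affineOpens, x ∈ U.1 ∧
      ∀ hU : genericPoint Z ∈ f ⁻¹ᵁ U.1, ∃ (c : Fin (N + 1) → Γ(X, U.1)) (φ : Z.functionField),
        φ ≠ 0 ∧ I.ideal U = Ideal.span (Set.range c) ∧ ∀ j, rho f U.1 hU (c j) = r j * φ := by
  classical
  haveI : CompactSpace X := hM.2.1
  obtain ⟨hMi, -, haff⟩ := isAmple_iff_affGlocus.1 hM
  haveI := quasiSeparatedSpace_of_affGlocus hMi haff
  obtain ⟨m, hm, t, hxt, -, ht⟩ := affGlocus_of_mem (x := genericPoint X) (U := ⊤) hM trivial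
  have hL := isInvertible_tensorPow hMi m
  let A := glocus (CohB1.tensorPow M m) t
  have hA : genericPoint Z ∈ f ⁻¹ᵁ A := eta_mem_preimage f hgen hxt
  obtain ⟨b, a, hb, hab⟩ := exists_common_denominator f hsurj ht hA r
  obtain ⟨n, T, hT⟩ := exists_extend_pow_finite hL t a
  let L := CohB1.tensorPow (CohB1.tensorPow M m) n
  have hLn : PicF.IsInvertible L := isInvertible_tensorPow hL n
  refine ⟨⨆ j, PicF2.zeroScheme L (unitDesc L (T j)), fun x => ?_⟩
  obtain ⟨V, hxV, e₀, he₀⟩ := exists_isGen hLn x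
  obtain ⟨_, ⟨U, hUa, rfl⟩, hxU, hUV⟩ :=
    X.isBasis_affineOpens.exists_subset_of_mem_open hxV V.isOpen
  refine ⟨⟨U, hUa⟩, hxU, fun hU => ?_⟩
  let e := resM L (hUV : U ≤ V) e₀
  have he : IsGen L U e := he₀.restrict _
  let c : Fin (N + 1) → Γ(X, U) := fun j => he.coef le_rfl (resM L le_top (T j))
  -- compare on `U ⊓ A`
  have hW : genericPoint Z ∈ f ⁻¹ᵁ (U ⊓ A) := ⟨hU, hA⟩
  let w : Γ(L, U ⊓ A) := resM _ inf_le_right (powSec (resM _ le_top t) n)
  have hw : IsGen L (U ⊓ A) w := (isGen_powSec (isGen_glocus t) n).restrict _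
  have hu : IsUnit ((he.restrict (inf_le_left : U ⊓ A ≤ U)).coef le_rfl w) :=
    (he.restrict _).isUnit_coef hw
  let u := (he.restrict (inf_le_left : U ⊓ A ≤ U)).coef le_rfl w
  have hu0 : rho f (U ⊓ A) hW u ≠ 0 := isUnit_iff_ne_zero.1 (hu.map _)
  refine ⟨c, rho f A hA b * rho f (U ⊓ A) hW u, mul_ne_zero hb hu0, ?_, fun j => ?_⟩
  · rw [Scheme.IdealSheafData.ideal_iSup, iSup_apply]
    simp only [ZeroSchLib.zeroScheme_ideal_eq_span _ hLn ⟨U, hUa⟩ he, unitVal_unitDesc]
    rw [Ideal.span, Submodule.span_range_eq_iSup]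
  · have h1 : PicLib.res (inf_le_left : U ⊓ A ≤ U) (c j) = PicLib.res (inf_le_right : U ⊓ A ≤ A) (a j) * u := by
      rw [← he.coef_res le_rfl inf_le_left]
      refine he.coef_eq _ ?_
      rw [mul_smul]
      have hspec : u • resM L (inf_le_left : U ⊓ A ≤ U) e = w := by
        have := (he.restrict (inf_le_left : U ⊓ A ≤ U)).coef_spec le_rfl w
        rwa [resM_self] at this
      rw [hspec, ← resM_smul, ← hT j, resM_resM, resM_resM]
    have h2 := congrArg (rho f (U ⊓ A) hW) h1
    rw [rho_res, map_mul, rho_res] at h2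
    rw [h2, ← mul_assoc, ← hab j]

end ideal

end Groth.Agent.BlowUpLib.Birat
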