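import Groth.Agent.BlowUpLib.Disjoint
import Mathlib.AlgebraicGeometry.Noetherian

/-!
# Separating the closures of two closed sets by a blow-up
-/

set_option autoImplicit false
set_option backward.isDefEq.respectTransparency.types false

universe u

open CategoryTheory Limits AlgebraicGeometry TopologicalSpace

namespace Groth.Agent.BlowUpLib

theorem closure_inter_eq_empty
    {X Z : Scheme.{u}} (p : Z ⟶ X) [QuasiCompact p]
    (X₀ : X.Opens) (F : Closeds X) (G : Closeds Z)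
    (𝔞 : X.IdealSheafData) (h₁ : Disjoint (𝔞.support : Set X) (X₀ : Set X))
    (h₂ : Scheme.IdealSheafData.vanishingIdeal F ≤ 𝔞)
    (h₃ : 𝔞 ≤ (((Scheme.IdealSheafData.vanishingIdeal F).comap p ⊔
      Scheme.IdealSheafData.vanishingIdeal G).subschemeι ≫ p).ker)
    {X' : Scheme.{u}} (π : X' ⟶ X) (hπ : BlowUp.IsEffCartierIdeal (𝔞.comap π)) :
    (pullback.snd p π).base ⁻¹' closure (π.base ⁻¹' ((F : Set X) ∩ (X₀ : Set X))) ∩
      closure ((pullback.fst p π).base ⁻¹' ((G : Set Z) ∩ (p ⁻¹ᵁ X₀ : Set Z))) = ∅ := by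
  refine Set.eq_empty_of_forall_notMem ?_
  rintro z ⟨hT, hz⟩
  replace hT : pullback.snd p π z ∈ closure (π.base ⁻¹' ((F : Set X) ∩ (X₀ : Set X))) := hT
  set IF := Scheme.IdealSheafData.vanishingIdeal F with hIF
  set IG := Scheme.IdealSheafData.vanishingIdeal G with hIG
  set π₁ := pullback.fst p π with hπ₁
  set π₂ := pullback.snd p π with hπ₂
  have hcomm : π₁ ≫ p = π₂ ≫ π := pullback.condition
  obtain ⟨W₀, hW₀, hxW, -⟩ :=
    exists_isAffineOpen_mem_and_subset (show π (π₂ z) ∈ (⊤ : X.Opens) from trivial)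
  let W : X.affineOpens := ⟨W₀, hW₀⟩
  obtain ⟨a, ha, haloc⟩ := exists_mem_locus π hπ W (show π₂ z ∈ π ⁻¹ᵁ W.1 from hxW)
    (𝔞.ideal W : Set Γ(X, W.1)) (Ideal.span_eq _)
  obtain ⟨W', hxW', eW, hgen⟩ := mem_locus.1 haloc
  let φ := (π.appLE W.1 W'.1 eW).hom
  have hspan : ∀ s ∈ 𝔞.ideal W, ∃ c, c * φ a = φ s := fun s hs =>
    Ideal.mem_span_singleton'.1
      (hgen.le (ProjLib.map_ideal_le_comap_ideal _ π W W' eW (Ideal.mem_map_of_mem _ hs)))
  have hunit : ∀ x'' (hx'' : x'' ∈ W'.1), π x'' ∈ (X₀ : Set X) → φ a ∉ prm x'' hx'' := by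
    intro x'' hx'' hX₀ h
    refine Set.disjoint_left.1 h₁ ((mem_support_iff_le_prm 𝔞 W (eW hx'')).2 fun b hb => ?_) hX₀
    obtain ⟨c, hc⟩ := hspan b hb
    rw [← appLE_mem_prm π eW hx'']
    exact hc ▸ Ideal.mul_mem_left _ c h
  choose c hc using hspan
  have hcz : ∀ b (hb : b ∈ IF.ideal W), c b (h₂ W hb) ∈ prm (π₂ z) hxW' := by
    intro b hb
    rw [mem_prm]
    intro hmem
    obtain ⟨x'', hx''b, hF, hX₀⟩ := mem_closure_iff.1 hT _ (X'.basicOpen (c b (h₂ W hb))).isOpen hmem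
    have hx'' : x'' ∈ W'.1 := X'.basicOpen_le _ hx''b
    have hb' : φ b ∈ prm x'' hx'' :=
      (appLE_mem_prm π eW hx'').2 ((mem_support_iff_le_prm IF W (eW hx'')).1 hF hb)
    rw [← hc b (h₂ W hb)] at hb'
    rcases (inferInstance : (prm x'' hx'').IsPrime).mem_or_mem hb' with h | h
    · exact (mem_prm hx'').1 h hx''b
    · exact hunit x'' hx'' hX₀ h
  have hzW : p (π₁ z) ∈ W.1 := by
    rw [← Scheme.Hom.comp_apply, hcomm, Scheme.Hom.comp_apply]
    exact hxW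
  obtain ⟨P₀, hP₀, hzP, hPW⟩ := exists_isAffineOpen_mem_and_subset (show π₁ z ∈ p ⁻¹ᵁ W.1 from hzW)
  let P : Z.affineOpens := ⟨P₀, hP₀⟩
  have eP : P.1 ≤ p ⁻¹ᵁ W.1 := hPW
  obtain ⟨P₁, hP₁, hzP', hle⟩ := exists_isAffineOpen_mem_and_subset
    (show z ∈ π₁ ⁻¹ᵁ P.1 ⊓ π₂ ⁻¹ᵁ W'.1 from ⟨hzP, hxW'⟩)
  let P' : (pullback p π).affineOpens := ⟨P₁, hP₁⟩
  have e₁ : P'.1 ≤ π₁ ⁻¹ᵁ P.1 := fun w hw => (hle hw).1
  have e₂ : P'.1 ≤ π₂ ⁻¹ᵁ W'.1 := fun w hw => (hle hw).2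
  let α := (π₁.appLE P.1 P'.1 e₁).hom
  let β := (π₂.appLE W'.1 P'.1 e₂).hom
  let ψ := (p.appLE W.1 P.1 eP).hom
  have hαβ : ∀ s, α (ψ s) = β (φ s) := by
    intro s
    show (p.appLE W.1 P.1 eP ≫ π₁.appLE P.1 P'.1 e₁).hom s =
      (π.appLE W.1 W'.1 eW ≫ π₂.appLE W'.1 P'.1 e₂).hom s
    rw [Scheme.Hom.appLE_comp_appLE, Scheme.Hom.appLE_comp_appLE]
    simp only [hcomm]
  let ε := β (φ a)
  let Q : Ideal Γ(pullback p π, P'.1) := prm z hzP'
  set B := IF.comap p ⊔ IG with hB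
  have hmem : ψ a ∈ (IF.comap p).ideal P ⊔ IG.ideal P := by
    have h := h₃ W ha
    rw [Scheme.Hom.ker_apply] at h
    have h0 : (B.subschemeι ≫ p).app W.1 a = 0 := h
    have h' : (B.subschemeι.app P.1).hom (ψ a) = 0 := by
      show (p.app W.1 ≫ Z.presheaf.map (homOfLE eP).op ≫ B.subschemeι.app P.1).hom a = 0
      rw [B.subschemeι.naturality, ← Category.assoc, CommRingCat.comp_apply]
      exact (congrArg _ h0).trans (map_zero _)
    rw [← RingHom.mem_ker, B.ker_subschemeι_app P] at h'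
    exact h'
  obtain ⟨s, hs, k, hk, hsk⟩ := Submodule.mem_sup.1 hmem
  have hsq : (IF.comap p).ideal P ≤ (Ideal.span {ε} * Q).comap α := by
    rw [ProjLib.comap_ideal_eq _ p W P eP, Ideal.map_le_iff_le_comap, Ideal.comap_comap]
    intro b hb
    show α (ψ b) ∈ Ideal.span {ε} * Q
    refine Ideal.mem_span_singleton_mul.2 ⟨β (c b (h₂ W hb)), ?_, ?_⟩
    · exact (appLE_mem_prm π₂ e₂ hzP').2 (hcz b hb)
    · rw [hαβ, ← hc b (h₂ W hb)]
      simp only [ε, map_mul]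
      ring
  obtain ⟨t, ht, hts⟩ := Ideal.mem_span_singleton_mul.1 (hsq hs)
  have hk' : α k = ε * (1 - t) := by
    have h := congrArg α hsk
    rw [map_add, hαβ, ← hts] at h
    linear_combination h
  have hu : z ∈ (pullback p π).basicOpen (1 - t) := by
    by_contra h
    exact (inferInstance : Q.IsPrime).ne_top ((Ideal.eq_top_iff_one _).2 (by
      have := Q.add_mem ((mem_prm hzP').2 h) ht
      rwa [sub_add_cancel] at this))
  obtain ⟨w, hwu, hwG, hwX₀⟩ := mem_closure_iff.1 hz _ ((pullback p π).basicOpen (1 - t)).isOpen hu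
  have hwP' : w ∈ P'.1 := (pullback p π).basicOpen_le _ hwu
  have hεw : ε ∉ prm w hwP' := by
    intro h
    refine hunit (π₂ w) (e₂ hwP') ?_ ((appLE_mem_prm π₂ e₂ hwP').1 h)
    rw [← Scheme.Hom.comp_apply, ← hcomm, Scheme.Hom.comp_apply]
    exact hwX₀
  have hkw : α k ∈ prm w hwP' := by
    rw [appLE_mem_prm π₁ e₁ hwP']
    exact (mem_support_iff_le_prm IG P (e₁ hwP')).1 hwG hk
  rw [hk'] at hkw
  rcases (inferInstance : (prm w hwP').IsPrime).mem_or_mem hkw with h | h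
  · exact hεw h
  · exact (mem_prm hwP').1 h hwu

end Groth.Agent.BlowUpLib
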