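import Groth.Agent.BlowUpLib.LocalTarget
import Groth.Agent.BlowUpLib.Disjoint
import Mathlib.AlgebraicGeometry.Morphisms.Finite
import Mathlib.AlgebraicGeometry.Noetherian

/-!
# Finite birational morphisms as blow-ups
-/

set_option autoImplicit false
set_option backward.isDefEq.respectTransparency.types false

universe u

open CategoryTheory Limits AlgebraicGeometry TopologicalSpace

namespace Groth.Agent.BlowUpLib

variable {X Y : Scheme.{u}}

theorem isIso_app_of_le (f : X ⟶ Y) (W : Y.Opens) [IsIso (f ∣_ W)] {V : Y.Opens} (h : V ≤ W) :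
    IsIso (f.app V) := by
  have e : W.ι ''ᵁ W.ι ⁻¹ᵁ V = V := by
    rw [Scheme.Hom.image_preimage_eq_opensRange_inf, Scheme.Opens.opensRange_ι]
    exact inf_eq_right.2 h
  rw [← e]
  have h1 : IsIso ((f ∣_ W).app (W.ι ⁻¹ᵁ V)) := inferInstance
  rw [morphismRestrict_app] at h1
  have key : ∀ (A B : (Opens ↥X)ᵒᵖ) (h : A ⟶ B) [IsIso h], IsIso (X.presheaf.map h) :=
    fun A B h _ => inferInstance
  exact @IsIso.of_isIso_comp_right _ _ _ _ _ _ _ (key _ _ _) h1

theorem comap_fromSpec_eq (I : Y.IdealSheafData) (U : Y.affineOpens) :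
    I.comap U.2.fromSpec = Curv2.idealSheaf Γ(Y, U.1) (I.ideal U) := by
  refine Scheme.IdealSheafData.ext_of_isAffine ?_
  have e : (⊤ : (Spec Γ(Y, U.1)).Opens) ≤ U.2.fromSpec ⁻¹ᵁ U.1 := by
    rw [U.2.fromSpec_preimage_self]
  rw [ProjLib.comap_ideal_eq _ _ U ⟨⊤, isAffineOpen_top _⟩ e]
  have happ : U.2.fromSpec.appLE U.1 ⊤ e = (Scheme.ΓSpecIso Γ(Y, U.1)).inv := by
    rw [Scheme.Hom.appLE, U.2.fromSpec_app_self, Category.assoc, ← Functor.map_comp]
    exact (congrArg ((Scheme.ΓSpecIso Γ(Y, U.1)).inv ≫ ·)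
      ((congrArg (Spec Γ(Y, U.1)).presheaf.map (Subsingleton.elim _ (𝟙 _))).trans
        ((Spec Γ(Y, U.1)).presheaf.map_id _))).trans (Category.comp_id _)
  rw [happ]
  show _ = (Scheme.IdealSheafData.ofIdealTop _).ideal _
  rw [Scheme.IdealSheafData.ofIdealTop_ideal]
  show _ = Ideal.map ((Spec Γ(Y, U.1)).presheaf.map (homOfLE le_top).op).hom _
  rw [Subsingleton.elim (homOfLE le_top).op (𝟙 (Opposite.op (⊤ : (Spec Γ(Y, U.1)).Opens))),
    (Spec Γ(Y, U.1)).presheaf.map_id]
  exact (Ideal.map_id _).symm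

variable (f : X ⟶ Y) [IsFinite f] {L : Y.IdealSheafData}

theorem affine_data [IsReduced X] (hiso : IsIso (f ∣_ L.support.compl))
    (hdense : Dense (f.base ⁻¹' ((L.support : Set Y)ᶜ)))
    (U : Y.affineOpens) {l : Γ(Y, U.1)} (hl : l ∈ nonZeroDivisors Γ(Y, U.1))
    (hlL : L.ideal U = Ideal.span {l}) :
    Function.Injective (f.app U.1).hom ∧
      (f.app U.1).hom l ∈ nonZeroDivisors Γ(X, f ⁻¹ᵁ U.1) ∧
      ∃ n₀ : ℕ, ∀ n, n₀ ≤ n → ∀ b, ∃ a, (f.app U.1).hom a = b * (f.app U.1).hom l ^ n := by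
  set φ := (f.app U.1).hom
  set D := Y.basicOpen l with hD
  have hDW : D ≤ L.support.compl := by
    intro y hy hy'
    have := (L.mem_support_iff_of_mem (Y.basicOpen_le l hy)).1 hy'
    rw [hlL, Scheme.zeroLocus_span, Scheme.zeroLocus_singleton] at this
    exact this hy
  haveI := isIso_app_of_le f L.support.compl hDW
  have hpre : f ⁻¹ᵁ D = X.basicOpen (φ l) := Scheme.preimage_basicOpen _ _
  have hV : IsAffineOpen (f ⁻¹ᵁ U.1) := U.2.preimage f
  have hl' : φ l ∈ nonZeroDivisors Γ(X, f ⁻¹ᵁ U.1) := by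
    rw [mem_nonZeroDivisors_iff_right]
    intro b hb
    have h0 : X.basicOpen b ⊓ X.basicOpen (φ l) = ⊥ := by
      rw [← Scheme.basicOpen_mul, hb, Scheme.basicOpen_zero]
    have h1 : X.basicOpen b = ⊥ := by
      refine Opens.ext (Set.eq_empty_of_forall_notMem fun x hx => ?_)
      obtain ⟨x', hx'b, hx'W⟩ := hdense.inter_open_nonempty _ (X.basicOpen b).isOpen ⟨x, hx⟩
      have hx'U : f x' ∈ U.1 := X.basicOpen_le b hx'b
      have hx'D : f x' ∈ D := by
        by_contra hcon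
        refine hx'W ((L.mem_support_iff_of_mem hx'U).2 ?_)
        rw [hlL, Scheme.zeroLocus_span, Scheme.zeroLocus_singleton]
        exact hcon
      have : x' ∈ (⊥ : X.Opens) := h0 ▸ ⟨hx'b, hpre.le hx'D⟩
      exact this
    exact (basicOpen_eq_bot_iff b).1 h1
  letI := φ.toAlgebra
  have hnat : ∀ (a : Γ(Y, U.1)) (e : f ⁻¹ᵁ D ≤ f ⁻¹ᵁ U.1),
      (X.presheaf.map (homOfLE e).op).hom (φ a) =
        (f.app D).hom ((Y.presheaf.map (homOfLE (Y.basicOpen_le l)).op).hom a) := fun a e =>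
    (ConcreteCategory.congr_hom (f.naturality (homOfLE (Y.basicOpen_le l)).op) a).symm
  have hle : f ⁻¹ᵁ D ≤ f ⁻¹ᵁ U.1 := hpre.le.trans (X.basicOpen_le _)
  have hbij := ConcreteCategory.bijective_of_isIso (f.app D)
  haveI := U.2.isLocalization_basicOpen l
  have hinjY : Function.Injective (algebraMap Γ(Y, U.1) Γ(Y, Y.basicOpen l)) :=
    IsLocalization.injective _ (Submonoid.powers_le.2 hl)
  refine ⟨fun a a' h => hinjY (hbij.1 ((hnat a hle).symm.trans ((congrArg _ h).trans (hnat a' hle)))), hl', ?_⟩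
  haveI := hV.isLocalization_basicOpen (φ l)
  have hinjX : Function.Injective (algebraMap Γ(X, f ⁻¹ᵁ U.1) Γ(X, X.basicOpen (φ l))) :=
    IsLocalization.injective _ (Submonoid.powers_le.2 hl')
  have hinjX' : Function.Injective (X.presheaf.map (homOfLE hle).op).hom := by
    intro b b' h
    apply hinjX
    have := congrArg (X.presheaf.map (homOfLE hpre.ge).op).hom h
    rw [← CommRingCat.comp_apply, ← CommRingCat.comp_apply, ← Functor.map_comp] at this
    exact this
  have key : ∀ b, ∃ (k : ℕ) (a : Γ(Y, U.1)), φ a = b * φ l ^ k := by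
    intro b
    obtain ⟨c, hc⟩ := hbij.2 ((X.presheaf.map (homOfLE hle).op).hom b)
    obtain ⟨a, ⟨_, k, rfl⟩, rfl⟩ := IsLocalization.exists_mk'_eq (Submonoid.powers l) c
    refine ⟨k, a, hinjX' ?_⟩
    rw [map_mul, ← hc, hnat, ← map_pow, hnat, ← map_mul]
    exact congrArg (f.app D).hom (IsLocalization.mk'_spec (M := Submonoid.powers l) _ a ⟨_, k, rfl⟩).symm
  have hfin : Module.Finite Γ(Y, U.1) Γ(X, f ⁻¹ᵁ U.1) := IsFinite.finite_app f U.1 U.2
  obtain ⟨s, hs⟩ := hfin.fg_top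
  choose k a hk using key
  refine ⟨s.sup k, fun n hn b => ?_⟩
  have hb : b ∈ Submodule.span Γ(Y, U.1) (s : Set Γ(X, f ⁻¹ᵁ U.1)) := hs.symm ▸ Submodule.mem_top
  induction hb using Submodule.span_induction with
  | mem x hx =>
    refine ⟨a x * l ^ (n - k x), ?_⟩
    rw [map_mul, hk, map_pow, mul_assoc, ← pow_add, Nat.add_sub_cancel' ((Finset.le_sup hx).trans hn)]
  | zero => exact ⟨0, by simp⟩
  | add x y _ _ hx hy =>
    obtain ⟨p, hp⟩ := hx
    obtain ⟨q, hq⟩ := hy
    exact ⟨p + q, by rw [map_add, hp, hq, add_mul]⟩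
  | smul r x _ hx =>
    obtain ⟨p, hp⟩ := hx
    refine ⟨r * p, ?_⟩
    rw [map_mul, hp]
    exact (mul_assoc _ _ _).symm

theorem exists_isBlowUp_of_finite [CompactSpace Y] [IsReduced X]
    (hL : BlowUp.IsEffCartierIdeal L) (hiso : IsIso (f ∣_ L.support.compl))
    (hdense : Dense (f.base ⁻¹' ((L.support : Set Y)ᶜ))) :
    ∃ I : Y.IdealSheafData, I.support = L.support ∧ BlowUp.IsBlowUp f I := by
  classical
  choose U hyU l hl hlL using hL
  have hdata := fun y => affine_data f hiso hdense (U y) (hl y) (hlL y)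
  choose hinj hl' n₀ hn₀ using hdata
  obtain ⟨s, hs⟩ := isCompact_univ.elim_finite_subcover (fun y : Y => ((U y).1 : Set Y))
    (fun y => (U y).1.2) (fun y _ => Set.mem_iUnion.2 ⟨y, hyU y⟩)
  let n := s.sup n₀ + 1
  let I := ((L ^ n).comap f).map f
  have hcomap : ∀ y, ((L ^ n).comap f).ideal ⟨_, (U y).2.preimage f⟩ =
      Ideal.span {(f.app (U y).1).hom (l y) ^ n} := by
    intro y
    rw [ProjLib.comap_ideal_eq _ f (U y) ⟨_, (U y).2.preimage f⟩ le_rfl, Scheme.IdealSheafData.ideal_pow,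
      Pi.pow_apply, hlL, Ideal.span_singleton_pow, Ideal.map_span, Set.image_singleton,
      ← Scheme.Hom.app_eq_appLE, map_pow]
  have hideal : ∀ y, I.ideal (U y) =
      (Ideal.span {(f.app (U y).1).hom (l y) ^ n}).comap (f.app (U y).1).hom := by
    intro y
    rw [Scheme.IdealSheafData.ideal_map_of_isAffineHom, hcomap]
  have hmap : ∀ y, (I.ideal (U y)).map (f.app (U y).1).hom =
      Ideal.span {(f.app (U y).1).hom (l y) ^ n} := by
    intro y
    rw [hideal]
    refine le_antisymm Ideal.map_comap_le ((Ideal.span_singleton_le_iff_mem _).2 ?_)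
    rw [← map_pow]
    refine Ideal.mem_map_of_mem _ ?_
    rw [Ideal.mem_comap, map_pow]
    exact Ideal.mem_span_singleton_self _
  have hcov : ∀ y : Y, ∃ i ∈ s, y ∈ (U i).1 := fun y => by
    obtain ⟨i, hi, hyi⟩ := Set.mem_iUnion₂.1 (hs (Set.mem_univ y))
    exact ⟨i, hi, hyi⟩
  refine ⟨I, Closeds.ext (Set.ext fun x => ?_), ?_⟩
  · obtain ⟨i, hi, hxi⟩ := hcov x
    rw [SetLike.mem_coe, SetLike.mem_coe, ← SetLike.mem_coe, mem_support_iff_le_prm _ (U i) hxi,
      ← SetLike.mem_coe, mem_support_iff_le_prm _ (U i) hxi, hlL, Ideal.span_singleton_le_iff_mem]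
    constructor
    · intro h
      refine (inferInstance : (prm x hxi).IsPrime).mem_of_pow_mem n (h ?_)
      rw [hideal, Ideal.mem_comap, map_pow]
      exact Ideal.mem_span_singleton_self _
    · intro h a ha
      rw [hideal, Ideal.mem_comap] at ha
      obtain ⟨b, hb⟩ := Ideal.mem_span_singleton'.1 ha
      letI := (f.app (U i).1).hom.toAlgebra
      haveI : Module.Finite Γ(Y, (U i).1) Γ(X, f ⁻¹ᵁ (U i).1) := IsFinite.finite_app f _ (U i).2
      obtain ⟨P, hP, hPb⟩ := Algebra.IsIntegral.isIntegral (R := Γ(Y, (U i).1)) b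
      -- the scaled equation holds for `a`
      have hroot : Polynomial.eval₂ (algebraMap Γ(Y, (U i).1) Γ(X, f ⁻¹ᵁ (U i).1))
          ((f.app (U i).1).hom a) (P.scaleRoots (l i ^ n)) = 0 := by
        rw [← hb, ← map_pow, mul_comm]
        exact Polynomial.scaleRoots_eval₂_eq_zero _ hPb
      have hev : (P.scaleRoots (l i ^ n)).eval a = 0 := by
        apply hinj i
        rw [map_zero, ← Polynomial.eval₂_at_apply]
        exact hroot
      have : a ^ P.natDegree ∈ prm x hxi := by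
        rw [Polynomial.eval_eq_sum_range, Polynomial.natDegree_scaleRoots, Finset.sum_range_succ] at hev
        rw [show (P.scaleRoots (l i ^ n)).coeff P.natDegree = 1 by
          rw [Polynomial.coeff_scaleRoots_natDegree]; exact hP, one_mul] at hev
        rw [eq_neg_of_add_eq_zero_right hev]
        refine neg_mem (Ideal.sum_mem _ fun j hj => Ideal.mul_mem_right _ _ ?_)
        rw [Polynomial.coeff_scaleRoots, ← pow_mul]
        refine Ideal.mul_mem_left _ _ (Ideal.pow_mem_of_mem _ h _ (Nat.mul_pos (Nat.succ_pos _) ?_))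
        exact Nat.sub_pos_of_lt (Finset.mem_range.1 hj)
      exact (inferInstance : (prm x hxi).IsPrime).mem_of_pow_mem _ this
  · refine isBlowUp_of_cover (fun i : s => (U i.1).1) ?_ ?_ fun i => ?_
    · exact top_le_iff.1 fun x _ => by
        obtain ⟨i, hi, hxi⟩ := hcov x
        exact Opens.mem_iSup.2 ⟨⟨i, hi⟩, hxi⟩
    · intro x
      obtain ⟨i, hi, hxi⟩ := hcov (f x)
      refine ⟨⟨_, (U i).2.preimage f⟩, hxi, _, pow_mem (hl' i) n, ?_⟩
      rw [ProjLib.comap_ideal_eq _ f (U i) ⟨_, (U i).2.preimage f⟩ le_rfl, ← hmap i,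
        ← Scheme.Hom.app_eq_appLE]
    · set V := U i.1
      letI := (f.app V.1).hom.toAlgebra
      have hB : BlowUp.IsBlowUp (Spec.map (f.app V.1)) (Curv2.idealSheaf Γ(Y, V.1) (I.ideal V)) := by
        refine isBlowUp_of_extension Γ(Y, V.1) Γ(X, f ⁻¹ᵁ V.1) (hinj i.1) _ ?_
          ((f.app V.1).hom (l i.1) ^ n) (pow_mem (hl' i.1) n) (hmap i.1)
        intro b hb
        obtain ⟨c, hc⟩ := Ideal.mem_span_singleton'.1 ((hmap i.1).le hb)
        obtain ⟨a, ha⟩ := hn₀ i.1 n ((Finset.le_sup i.2).trans (Nat.le_succ _)) c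
        refine ⟨a, ?_, ha.trans hc⟩
        rw [SetLike.mem_coe, hideal, Ideal.mem_comap, ha]
        exact Ideal.mul_mem_left _ _ (Ideal.mem_span_singleton_self _)
      have h1 := isBlowUp_of_iso_right V.2.isoSpec.inv (I.comap V.1.ι) (by
        rw [← Scheme.IdealSheafData.comap_comp, V.2.isoSpec_inv_ι, comap_fromSpec_eq]) hB
      have hsq : f ∣_ V.1 = (V.2.preimage f).isoSpec.hom ≫ Spec.map (f.app V.1) ≫ V.2.isoSpec.inv := by
        rw [← Iso.inv_comp_eq, ← cancel_mono V.1.ι]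
        simp only [Category.assoc, morphismRestrict_ι, IsAffineOpen.isoSpec_inv_ι]
        rw [← Category.assoc, IsAffineOpen.isoSpec_inv_ι, Scheme.Hom.app_eq_appLE,
          IsAffineOpen.SpecMap_appLE_fromSpec]
      rw [hsq]
      exact isBlowUp_iso_comp _ h1

end Groth.Agent.BlowUpLib
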