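import Groth.Agent.SDiv28.ClosedMap
import Groth.Agent.ProjLib.BlowUpBasics

/-!
# The strict transform as a scheme theoretic image
-/

set_option autoImplicit false
set_option backward.isDefEq.respectTransparency.types false

universe u

open CategoryTheory Limits AlgebraicGeometry TopologicalSpace

namespace Groth.Agent.BlowUpLib

variable {X Y : Scheme.{u}}

theorem isAffineHom_compl_ι {E : X.IdealSheafData} (hE : BlowUp.IsEffCartierIdeal E)
    (W : X.Opens) (hW : (W : Set X) = (E.support : Set X)ᶜ) : IsAffineHom W.ι := by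
  refine isAffineHom_of_forall_exists_isAffineOpen _ fun x => ?_
  obtain ⟨U, hxU, f, -, hfI⟩ := hE x
  refine ⟨U.1, hxU, U.2, ?_⟩
  rw [← W.ι.isAffineOpen_iff_of_isOpenImmersion, Scheme.Hom.image_preimage_eq_opensRange_inf,
    Scheme.Opens.opensRange_ι]
  have : W ⊓ U.1 = X.basicOpen f := by
    apply Opens.ext
    rw [Opens.coe_inf, hW]
    ext y
    constructor
    · rintro ⟨hy, hyU⟩
      by_contra hyf
      refine hy ((E.mem_support_iff_of_mem hyU).2 ?_)
      rw [hfI, Scheme.zeroLocus_span, Scheme.zeroLocus_singleton]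
      exact hyf
    · intro hy
      refine ⟨fun hy' => ?_, X.basicOpen_le f hy⟩
      have := (E.mem_support_iff_of_mem (X.basicOpen_le f hy)).1 hy'
      rw [hfI, Scheme.zeroLocus_span, Scheme.zeroLocus_singleton] at this
      exact this hy
  rw [this]
  exact U.2.basicOpen f

theorem ker_comp_of_dominant {Z : Scheme.{u}} (f : Z ⟶ Y) [IsSchemeTheoreticallyDominant f]
    [QuasiCompact f] (g : Y ⟶ X) [QuasiCompact g] : (f ≫ g).ker = g.ker := by
  refine le_antisymm (fun U s hs => ?_) (f.le_ker_comp g)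
  rw [Scheme.Hom.ker_apply, RingHom.mem_ker] at hs ⊢
  replace hs : (f.app (g ⁻¹ᵁ U.1)).hom ((g.app U.1).hom s) = 0 := hs
  exact (Scheme.Hom.app_injective f _) (hs.trans (map_zero _).symm)

theorem strict_image {X' Z' : Scheme.{u}} (𝓘 𝓙 : X.IdealSheafData) (b : X' ⟶ X)
    (hb : BlowUp.IsBlowUp b 𝓘)
    (b' : Z' ⟶ 𝓙.subscheme) (hb' : BlowUp.IsBlowUp b' (𝓘.comap 𝓙.subschemeι))
    (k : Z' ⟶ X') (hk : k ≫ b = b' ≫ 𝓙.subschemeι) :
    IsClosedImmersion k ∧
      IsAffineHom ((k ⁻¹ᵁ (b ⁻¹ᵁ 𝓘.support.compl)).ι ≫ k) ∧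
      ((k ⁻¹ᵁ (b ⁻¹ᵁ 𝓘.support.compl)).ι ≫ k).ker = k.ker := by
  haveI hcl : IsClosedImmersion k := SDiv28.isClosedImmersion_blowUp_map 𝓙.subschemeι hb hb' hk
  have hE : BlowUp.IsEffCartierIdeal (𝓘.comap (k ≫ b)) := by
    rw [hk, Scheme.IdealSheafData.comap_comp]
    exact hb'.1
  set W : Z'.Opens := k ⁻¹ᵁ (b ⁻¹ᵁ 𝓘.support.compl)
  have hW : (W : Set Z') = ((𝓘.comap (k ≫ b)).support : Set Z')ᶜ := by
    rw [Scheme.IdealSheafData.support_comap]
    rfl
  haveI := isAffineHom_compl_ι hE W hW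
  haveI := ProjLib.isSchemeTheoreticallyDominant_compl_effCartier hE W hW.ge
  exact ⟨hcl, inferInstance, ker_comp_of_dominant W.ι k⟩

end Groth.Agent.BlowUpLib
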