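import Groth.Agent.BlowUpLib.Chart

/-!
# Strict transforms miss the charts of the equations
-/

set_option autoImplicit false
set_option backward.isDefEq.respectTransparency.types false

universe u

open CategoryTheory Limits AlgebraicGeometry TopologicalSpace

namespace Groth.Agent.BlowUpLib

variable {X X' Yt : Scheme.{u}}

theorem notMem_locus_of_strict (𝓚 J : X.IdealSheafData) (b : X' ⟶ X) (k : Yt ⟶ X')
    (m : Yt ⟶ J.subscheme) (hk : k ≫ b = m ≫ J.subschemeι)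
    (heff : BlowUp.IsEffCartierIdeal (𝓚.comap (k ≫ b)))
    (V : X.affineOpens) (s : Γ(X, V.1)) (hs : s ∈ J.ideal V) (y : Yt) :
    k y ∉ locus 𝓚 b V s := by
  intro hy
  obtain ⟨V', hyV', hgen⟩ := mem_locus.1 hy
  obtain ⟨W₀, hW₀, hyW, hle⟩ := exists_isAffineOpen_mem_and_subset (show y ∈ k ⁻¹ᵁ V'.1 from hyV')
  let W : Yt.affineOpens := ⟨W₀, hW₀⟩
  obtain ⟨e, he⟩ := hgen.comp k (W := W) hle
  have h0 : ((k ≫ b).appLE V.1 W.1 e).hom s = 0 := by
    have h1 : (J.subschemeι.app V.1).hom s = 0 :=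
      RingHom.mem_ker.1 ((J.ker_subschemeι_app V).ge hs)
    have h2 : ∀ (e' : W.1 ≤ (m ≫ J.subschemeι) ⁻¹ᵁ V.1),
        ((m ≫ J.subschemeι).appLE V.1 W.1 e').hom s = 0 := by
      intro e'
      rw [Scheme.Hom.comp_appLE, CommRingCat.comp_apply, h1, map_zero]
    revert e
    rw [hk]
    intro e _
    exact h2 e
  rw [h0] at he
  haveI : Nonempty W.1 := ⟨⟨y, hyW⟩⟩
  exact zero_notMem_nonZeroDivisors (mem_nonZeroDivisors_of_eff heff he)

theorem iInter_range_strict_eq_empty {n : ℕ} (𝓙 : Fin n → X.IdealSheafData) (b : X' ⟶ X)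
    (heff : BlowUp.IsEffCartierIdeal ((⨆ i, 𝓙 i).comap b))
    (Y' : Fin n → Scheme.{u}) (m : ∀ i, Y' i ⟶ (𝓙 i).subscheme)
    (hm : ∀ i, BlowUp.IsEffCartierIdeal (((⨆ j, 𝓙 j).comap (𝓙 i).subschemeι).comap (m i)))
    (k : ∀ i, Y' i ⟶ X') (hk : ∀ i, k i ≫ b = m i ≫ (𝓙 i).subschemeι) :
    (⋂ i, Set.range (fun y => k i y)) = (∅ : Set X') := by
  refine Set.eq_empty_of_forall_notMem fun x hx => ?_
  obtain ⟨V₀, hV₀, hxV, -⟩ := exists_isAffineOpen_mem_and_subset (show b x ∈ (⊤ : X.Opens) from trivial)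
  let V : X.affineOpens := ⟨V₀, hV₀⟩
  obtain ⟨a, ha, haloc⟩ := exists_mem_locus b heff V (show x ∈ b ⁻¹ᵁ V.1 from hxV)
    (⋃ i, ((𝓙 i).ideal V : Set Γ(X, V.1))) (by
      rw [Ideal.span_iUnion, Scheme.IdealSheafData.ideal_iSup, iSup_apply]
      simp only [Ideal.span_eq])
  obtain ⟨i, hi⟩ := Set.mem_iUnion.1 ha
  obtain ⟨y, rfl⟩ := Set.mem_iInter.1 hx i
  exact notMem_locus_of_strict _ (𝓙 i) b (k i) (m i) (hk i)
    (by rw [hk i, Scheme.IdealSheafData.comap_comp]; exact hm i) V a hi y haloc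

end Groth.Agent.BlowUpLib
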